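import Mathlib
import Cfsg.Agent.Lib.Helper6.ChevConj
import Cfsg.Prelude.Def_ChevE7

/-!
# Tables of the elements n_p for E7 (helper6)

Generated tables and kernel checks.
-/

set_option autoImplicit false

namespace Cfsg.Agent.Lib.Helper6.ChevN

open Cfsg.Lie Cfsg.Agent.Lib.Helper6.ChevConj

/-- the matrix of `n_p(1)` for the fundamental root 0 of E7 -/
def tabE7_0 : Tab :=
  [[(0, -1)], [(1, 1)], [(2, 1), (0, 1)], [(3, 1)], [(4, 1)], [(5, 1)], [(6, 1)], [(8, -1)], [(7, 1)], [(9, 1)], [(10, 1)], [(11, 1)], [(12, 1)], [(13, 1)], [(14, 1)], [(15, 1)], [(16, 1)], [(17, 1)], [(18, 1)], [(19, 1)], [(20, 1)], [(21, 1)], [(22, 1)], [(23, 1)], [(40, 1)], [(41, 1)], [(42, 1)], [(43, 1)], [(44, 1)], [(45, 1)], [(46, 1)], [(47, 1)], [(48, 1)], [(49, 1)], [(55, 1)], [(56, 1)], [(57, 1)], [(58, 1)], [(59, 1)], [(100, -1)], [(24, -1)], [(25, -1)], [(26, -1)], [(27, -1)],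 [(28, -1)], [(29, -1)], [(30, -1)], [(31, -1)], [(32, -1)], [(33, -1)], [(50, 1)], [(51, 1)], [(52, 1)], [(53, 1)], [(54, 1)], [(34, -1)], [(35, -1)], [(36, -1)], [(37, -1)], [(38, -1)], [(60, 1)], [(61, 1)], [(62, 1)], [(63, 1)], [(64, 1)], [(65, 1)], [(66, 1)], [(67, 1)], [(68, 1)], [(69, 1)], [(70, 1)], [(71, 1)], [(72, 1)], [(73, 1)], [(74, 1)], [(75, 1)], [(76, 1)], [(77, 1)], [(78, 1)], [(79, 1)], [(101, -1)], [(102, -1)], [(103, -1)], [(104, -1)], [(105, -1)], [(85, 1)], [(86, 1)], [(87, 1)], [(88, 1)], [(89, 1)], [(106, -1)], [(107, -1)], [(108, -1)], [(109, -1)], [(110, -1)], [(111, -1)], [(112, -1)], [(113, -1)], [(114, -1)], [(115, -1)], [(39, -1)], [(80, 1)], [(81, 1)], [(82, 1)], [(83, 1)], [(84, 1)], [(90, 1)], [(91, 1)], [(92, 1)], [(93, 1)], [(94, 1)], [(95, 1)], [(96, 1)], [(97, 1)], [(98, 1)], [(99, 1)], [(116, 1)], [(117, 1)], [(118, 1)],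 [(119, 1)], [(120, 1)], [(121, 1)], [(122, 1)], [(123, 1)], [(124, 1)], [(125, 1)], [(126, 1)], [(127, 1)], [(128, 1)], [(129, 1)], [(130, 1)], [(132, 1)], [(131, -1)]]

/-- the matrix of `n_p(1)` for the fundamental root 1 of E7 -/
def tabE7_1 : Tab :=
  [[(0, 1)], [(1, -1)], [(2, 1)], [(3, 1), (1, 1)], [(4, 1)], [(5, 1)], [(6, 1)], [(7, 1)], [(8, 1)], [(9, 1)], [(14, -1)], [(15, -1)], [(16, -1)], [(17, -1)], [(10, 1)], [(11, 1)], [(12, 1)], [(13, 1)], [(18, 1)], [(19, 1)], [(20, 1)], [(21, 1)], [(22, 1)], [(23, 1)], [(24, 1)], [(25, 1)], [(26, 1)], [(27, 1)], [(28, 1)], [(29, 1)], [(34, -1)], [(35, -1)], [(36, -1)], [(37, -1)], [(30, 1)], [(31, 1)], [(32, 1)], [(33, 1)], [(38, 1)], [(39, 1)], [(40, 1)], [(41, 1)], [(42, 1)], [(43, 1)], [(44, 1)], [(45, 1)], [(55, -1)], [(56, -1)], [(57, -1)], [(58, -1)], [(60, 1)], [(61, 1)], [(62, 1)], [(63, 1)], [(85, -1)],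 [(46, 1)], [(47, 1)], [(48, 1)], [(49, 1)], [(59, 1)], [(50, -1)], [(51, -1)], [(52, -1)], [(53, -1)], [(64, 1)], [(65, 1)], [(66, 1)], [(67, 1)], [(68, 1)], [(69, 1)], [(70, 1)], [(71, 1)], [(72, 1)], [(73, 1)], [(74, 1)], [(75, 1)], [(86, -1)], [(87, -1)], [(88, -1)], [(89, -1)], [(80, 1)], [(90, 1)], [(91, 1)], [(92, 1)], [(93, 1)], [(54, -1)], [(76, 1)], [(77, 1)], [(78, 1)], [(79, 1)], [(81, -1)], [(82, -1)], [(83, -1)], [(84, -1)], [(94, 1)], [(95, 1)], [(96, 1)], [(97, 1)], [(98, 1)], [(99, 1)], [(100, 1)], [(101, 1)], [(106, 1)], [(107, 1)], [(108, 1)], [(109, 1)], [(102, -1)], [(103, -1)], [(104, -1)], [(105, -1)], [(110, 1)], [(111, 1)], [(112, 1)], [(113, 1)], [(114, 1)], [(115, 1)], [(116, 1)], [(117, 1)], [(118, 1)], [(119, 1)], [(120, 1)], [(121, 1)], [(126, 1)], [(127, 1)], [(128, 1)], [(129, 1)], [(122, -1)], [(123, -1)], [(124, -1)], [(125,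 -1)], [(130, 1)], [(131, 1)], [(132, 1)]]

/-- the matrix of `n_p(1)` for the fundamental root 2 of E7 -/
def tabE7_2 : Tab :=
  [[(2, 1), (0, 1)], [(1, 1)], [(2, -1)], [(3, 1), (2, 1)], [(4, 1)], [(5, 1)], [(6, 1)], [(7, 1)], [(9, -1)], [(8, 1)], [(10, 1)], [(11, 1)], [(12, 1)], [(13, 1)], [(14, 1)], [(15, 1)], [(16, 1)], [(17, 1)], [(24, -1)], [(25, -1)], [(26, -1)], [(27, -1)], [(28, -1)], [(29, -1)], [(18, 1)], [(19, 1)], [(20, 1)], [(21, 1)], [(22, 1)], [(23, 1)], [(30, 1)], [(31, 1)], [(32, 1)], [(33, 1)], [(34, 1)], [(35, 1)], [(36, 1)], [(37, 1)], [(39, -1)], [(38, 1)], [(40, 1)], [(41, 1)], [(42, 1)], [(43, 1)], [(44, 1)], [(45, 1)], [(50, -1)], [(51, -1)], [(52, -1)], [(53, -1)], [(46, 1)], [(47, 1)], [(48, 1)], [(49, 1)], [(54, 1)], [(60, 1)], [(61, 1)], [(62, 1)], [(63, 1)], [(80, -1)], [(55, -1)], [(56, -1)], [(57, -1)], [(58, -1)], [(64, 1)],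 [(65, 1)], [(66, 1)], [(67, 1)], [(68, 1)], [(69, 1)], [(70, 1)], [(71, 1)], [(72, 1)], [(73, 1)], [(74, 1)], [(75, 1)], [(81, -1)], [(82, -1)], [(83, -1)], [(84, -1)], [(59, -1)], [(76, 1)], [(77, 1)], [(78, 1)], [(79, 1)], [(85, 1)], [(90, 1)], [(91, 1)], [(92, 1)], [(93, 1)], [(86, -1)], [(87, -1)], [(88, -1)], [(89, -1)], [(94, 1)], [(95, 1)], [(96, 1)], [(97, 1)], [(98, 1)], [(99, 1)], [(101, 1)], [(100, -1)], [(102, 1)], [(103, 1)], [(104, 1)], [(105, 1)], [(106, 1)], [(107, 1)], [(108, 1)], [(109, 1)], [(116, 1)], [(117, 1)], [(118, 1)], [(119, 1)], [(120, 1)], [(121, 1)], [(110, -1)], [(111, -1)], [(112, -1)], [(113, -1)], [(114, -1)], [(115, -1)], [(122, 1)], [(123, 1)], [(124, 1)], [(125, 1)], [(126, 1)], [(127, 1)], [(128, 1)], [(129, 1)], [(131, 1)], [(130, -1)], [(132, 1)]]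

/-- the matrix of `n_p(1)` for the fundamental root 3 of E7 -/
def tabE7_3 : Tab :=
  [[(0, 1)], [(3, 1), (1, 1)], [(3, 1), (2, 1)], [(3, -1)], [(4, 1), (3, 1)], [(5, 1)], [(6, 1)], [(7, 1)], [(8, 1)], [(10, -1)], [(9, 1)], [(11, 1)], [(12, 1)], [(13, 1)], [(14, 1)], [(18, -1)], [(19, -1)], [(20, -1)], [(15, 1)], [(16, 1)], [(17, 1)], [(21, 1)], [(22, 1)], [(23, 1)], [(24, 1)], [(25, 1)], [(26, 1)], [(30, -1)], [(31, -1)], [(32, -1)], [(27, 1)], [(28, 1)], [(29, 1)], [(33, 1)], [(34, 1)], [(35, 1)], [(36, 1)], [(38, -1)], [(37, 1)], [(39, 1)], [(40, 1)], [(41, 1)], [(42, 1)], [(46, -1)], [(47, -1)], [(48, -1)], [(43, 1)], [(44, 1)], [(45, 1)], [(49, 1)], [(50, 1)], [(51, 1)], [(52, 1)], [(54, -1)], [(53, 1)], [(55, 1)], [(56, 1)], [(57, 1)], [(59, -1)], [(58, 1)], [(64, 1)], [(65, 1)], [(66, 1)], [(76, -1)], [(60, -1)], [(61, -1)], [(62, -1)], [(67, 1)], [(68,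 1)], [(69, 1)], [(70, 1)], [(71, 1)], [(72, 1)], [(77, -1)], [(78, -1)], [(79, -1)], [(63, -1)], [(73, 1)], [(74, 1)], [(75, 1)], [(81, 1)], [(80, -1)], [(82, 1)], [(83, 1)], [(84, 1)], [(86, 1)], [(85, -1)], [(87, 1)], [(88, 1)], [(89, 1)], [(90, 1)], [(94, 1)], [(95, 1)], [(96, 1)], [(91, -1)], [(92, -1)], [(93, -1)], [(97, 1)], [(98, 1)], [(99, 1)], [(100, 1)], [(102, 1)], [(101, -1)], [(103, 1)], [(104, 1)], [(105, 1)], [(106, 1)], [(110, 1)], [(111, 1)], [(112, 1)], [(107, -1)], [(108, -1)], [(109, -1)], [(113, 1)], [(114, 1)], [(115, 1)], [(116, 1)], [(117, 1)], [(118, 1)], [(122, 1)], [(123, 1)], [(124, 1)], [(119, -1)], [(120, -1)], [(121, -1)], [(125, 1)], [(126, 1)], [(127, 1)], [(128, 1)], [(130, 1)], [(129, -1)], [(131, 1)], [(132, 1)]]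

/-- the matrix of `n_p(1)` for the fundamental root 4 of E7 -/
def tabE7_4 : Tab :=
  [[(0, 1)], [(1, 1)], [(2, 1)], [(4, 1), (3, 1)], [(4, -1)], [(5, 1), (4, 1)], [(6, 1)], [(7, 1)], [(8, 1)], [(9, 1)], [(11, -1)], [(10, 1)], [(12, 1)], [(13, 1)], [(15, -1)], [(14, 1)], [(16, 1)], [(17, 1)], [(18, 1)], [(21, -1)], [(22, -1)], [(19, 1)], [(20, 1)], [(23, 1)], [(24, 1)], [(27, -1)], [(28, -1)], [(25, 1)], [(26, 1)], [(29, 1)], [(30, 1)], [(31, 1)], [(33, -1)], [(32, 1)], [(34, 1)], [(35, 1)], [(37, -1)], [(36, 1)], [(38, 1)], [(39, 1)], [(40, 1)], [(43, -1)], [(44, -1)], [(41, 1)], [(42, 1)], [(45, 1)], [(46, 1)], [(47, 1)], [(49, -1)], [(48, 1)], [(50, 1)], [(51, 1)], [(53, -1)], [(52, 1)], [(54, 1)], [(55, 1)], [(56, 1)], [(58, -1)], [(57, 1)], [(59, 1)], [(60, 1)], [(61, 1)], [(63, -1)], [(62, 1)], [(67, 1)], [(68, 1)], [(73, -1)], [(64, -1)], [(65, -1)],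 [(69, 1)], [(70, 1)], [(74, -1)], [(75, -1)], [(66, -1)], [(71, 1)], [(72, 1)], [(77, 1)], [(76, -1)], [(78, 1)], [(79, 1)], [(80, 1)], [(82, 1)], [(81, -1)], [(83, 1)], [(84, 1)], [(85, 1)], [(87, 1)], [(86, -1)], [(88, 1)], [(89, 1)], [(91, 1)], [(90, -1)], [(92, 1)], [(93, 1)], [(94, 1)], [(97, 1)], [(98, 1)], [(95, -1)], [(96, -1)], [(99, 1)], [(100, 1)], [(101, 1)], [(103, 1)], [(102, -1)], [(104, 1)], [(105, 1)], [(107, 1)], [(106, -1)], [(108, 1)], [(109, 1)], [(110, 1)], [(113, 1)], [(114, 1)], [(111, -1)], [(112, -1)], [(115, 1)], [(116, 1)], [(119, 1)], [(120, 1)], [(117, -1)], [(118, -1)], [(121, 1)], [(122, 1)], [(123, 1)], [(125, 1)], [(124, -1)], [(126, 1)], [(127, 1)], [(129, 1)], [(128, -1)], [(130, 1)], [(131, 1)], [(132, 1)]]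

/-- the matrix of `n_p(1)` for the fundamental root 5 of E7 -/
def tabE7_5 : Tab :=
  [[(0, 1)], [(1, 1)], [(2, 1)], [(3, 1)], [(5, 1), (4, 1)], [(5, -1)], [(6, 1), (5, 1)], [(7, 1)], [(8, 1)], [(9, 1)], [(10, 1)], [(12, -1)], [(11, 1)], [(13, 1)], [(14, 1)], [(16, -1)], [(15, 1)], [(17, 1)], [(19, -1)], [(18, 1)], [(20, 1)], [(21, 1)], [(23, -1)], [(22, 1)], [(25, -1)], [(24, 1)], [(26, 1)], [(27, 1)], [(29, -1)], [(28, 1)], [(30, 1)], [(32, -1)], [(31, 1)], [(33, 1)], [(34, 1)], [(36, -1)], [(35, 1)], [(37, 1)], [(38, 1)], [(39, 1)], [(41, -1)], [(40, 1)], [(42, 1)], [(43, 1)], [(45, -1)], [(44, 1)], [(46, 1)], [(48, -1)], [(47, 1)], [(49, 1)], [(50, 1)], [(52, -1)], [(51, 1)], [(53, 1)], [(54, 1)], [(55, 1)], [(57, -1)], [(56, 1)], [(58, 1)], [(59, 1)], [(60, 1)], [(62, -1)], [(61, 1)], [(63, 1)], [(64, 1)], [(66, -1)], [(65, 1)], [(69, 1)], [(71, -1)],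 [(67, -1)], [(72, -1)], [(68, -1)], [(70, 1)], [(74, 1)], [(73, -1)], [(75, 1)], [(76, 1)], [(78, 1)], [(77, -1)], [(79, 1)], [(80, 1)], [(81, 1)], [(83, 1)], [(82, -1)], [(84, 1)], [(85, 1)], [(86, 1)], [(88, 1)], [(87, -1)], [(89, 1)], [(90, 1)], [(92, 1)], [(91, -1)], [(93, 1)], [(95, 1)], [(94, -1)], [(96, 1)], [(97, 1)], [(99, 1)], [(98, -1)], [(100, 1)], [(101, 1)], [(102, 1)], [(104, 1)], [(103, -1)], [(105, 1)], [(106, 1)], [(108, 1)], [(107, -1)], [(109, 1)], [(111, 1)], [(110, -1)], [(112, 1)], [(113, 1)], [(115, 1)], [(114, -1)], [(117, 1)], [(116, -1)], [(118, 1)], [(119, 1)], [(121, 1)], [(120, -1)], [(122, 1)], [(124, 1)], [(123, -1)], [(125, 1)], [(126, 1)], [(128, 1)], [(127, -1)], [(129, 1)], [(130, 1)], [(131, 1)], [(132, 1)]]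

/-- the matrix of `n_p(1)` for the fundamental root 6 of E7 -/
def tabE7_6 : Tab :=
  [[(0, 1)], [(1, 1)], [(2, 1)], [(3, 1)], [(4, 1)], [(6, 1), (5, 1)], [(6, -1)], [(7, 1)], [(8, 1)], [(9, 1)], [(10, 1)], [(11, 1)], [(13, -1)], [(12, 1)], [(14, 1)], [(15, 1)], [(17, -1)], [(16, 1)], [(18, 1)], [(20, -1)], [(19, 1)], [(22, -1)], [(21, 1)], [(23, 1)], [(24, 1)], [(26, -1)], [(25, 1)], [(28, -1)], [(27, 1)], [(29, 1)], [(31, -1)], [(30, 1)], [(32, 1)], [(33, 1)], [(35, -1)], [(34, 1)], [(36, 1)], [(37, 1)], [(38, 1)], [(39, 1)], [(40, 1)], [(42, -1)], [(41, 1)], [(44, -1)], [(43, 1)], [(45, 1)], [(47, -1)], [(46, 1)], [(48, 1)], [(49, 1)], [(51, -1)], [(50, 1)], [(52, 1)], [(53, 1)], [(54, 1)], [(56, -1)], [(55, 1)], [(57, 1)], [(58, 1)], [(59, 1)], [(61, -1)], [(60, 1)], [(62, 1)], [(63, 1)], [(65, -1)], [(64, 1)], [(66, 1)], [(68, -1)], [(67, 1)], [(70, -1)],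 [(69, -1)], [(72, 1)], [(71, -1)], [(73, 1)], [(75, 1)], [(74, -1)], [(76, 1)], [(77, 1)], [(79, 1)], [(78, -1)], [(80, 1)], [(81, 1)], [(82, 1)], [(84, 1)], [(83, -1)], [(85, 1)], [(86, 1)], [(87, 1)], [(89, 1)], [(88, -1)], [(90, 1)], [(91, 1)], [(93, 1)], [(92, -1)], [(94, 1)], [(96, 1)], [(95, -1)], [(98, 1)], [(97, -1)], [(99, 1)], [(100, 1)], [(101, 1)], [(102, 1)], [(103, 1)], [(105, 1)], [(104, -1)], [(106, 1)], [(107, 1)], [(109, 1)], [(108, -1)], [(110, 1)], [(112, 1)], [(111, -1)], [(114, 1)], [(113, -1)], [(115, 1)], [(116, 1)], [(118, 1)], [(117, -1)], [(120, 1)], [(119, -1)], [(121, 1)], [(123, 1)], [(122, -1)], [(124, 1)], [(125, 1)], [(127, 1)], [(126, -1)], [(128, 1)], [(129, 1)], [(130, 1)], [(131, 1)], [(132, 1)]]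


end Cfsg.Agent.Lib.Helper6.ChevN
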