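import Mathlib
import Cfsg.Agent.Lib.Helper6.ChevConj
import Cfsg.Agent.Lib.Helper6.ChevN.E7Tab

/-!
# The element n_p for E7, fundamental root 1 (helper6)

Generated tables and kernel checks.
-/

set_option autoImplicit false

namespace Cfsg.Agent.Lib.Helper6.ChevN

open Cfsg.Lie Cfsg.Agent.Lib.Helper6.ChevConj

set_option maxHeartbeats 0 in
set_option maxRecDepth 100000 in
theorem tabCheckE7_1 : nTabCheck chevE7 (chevE7.simple 1) tabE7_1 := by
  decide +kernel

set_option maxHeartbeats 0 in
set_option maxRecDepth 100000 in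
theorem conjE7_1_0 : nConjCheckL chevE7 tabE7_1 1 (List.range' 0 14) := by
  decide +kernel

set_option maxHeartbeats 0 in
set_option maxRecDepth 100000 in
theorem conjE7_1_1 : nConjCheckL chevE7 tabE7_1 1 (List.range' 14 14) := by
  decide +kernel

set_option maxHeartbeats 0 in
set_option maxRecDepth 100000 in
theorem conjE7_1_2 : nConjCheckL chevE7 tabE7_1 1 (List.range' 28 14) := by
  decide +kernel

set_option maxHeartbeats 0 in
set_option maxRecDepth 100000 in
theorem conjE7_1_3 : nConjCheckL chevE7 tabE7_1 1 (List.range' 42 14) := by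
  decide +kernel

set_option maxHeartbeats 0 in
set_option maxRecDepth 100000 in
theorem conjE7_1_4 : nConjCheckL chevE7 tabE7_1 1 (List.range' 56 14) := by
  decide +kernel

set_option maxHeartbeats 0 in
set_option maxRecDepth 100000 in
theorem conjE7_1_5 : nConjCheckL chevE7 tabE7_1 1 (List.range' 70 14) := by
  decide +kernel

set_option maxHeartbeats 0 in
set_option maxRecDepth 100000 in
theorem conjE7_1_6 : nConjCheckL chevE7 tabE7_1 1 (List.range' 84 14) := by
  decide +kernel

set_option maxHeartbeats 0 in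
set_option maxRecDepth 100000 in
theorem conjE7_1_7 : nConjCheckL chevE7 tabE7_1 1 (List.range' 98 14) := by
  decide +kernel

set_option maxHeartbeats 0 in
set_option maxRecDepth 100000 in
theorem conjE7_1_8 : nConjCheckL chevE7 tabE7_1 1 (List.range' 112 14) := by
  decide +kernel

theorem conjE7_1 (s : ℕ) (h1 : 0 ≤ s) (h2 : s < 126) : nConjCheck chevE7 tabE7_1 1 s := by
  by_cases h14 : s < 14
  · exact conjE7_1_0 s (List.mem_range'_1.mpr ⟨by omega, by omega⟩)
  by_cases h28 : s < 28
  · exact conjE7_1_1 s (List.mem_range'_1.mpr ⟨by omega, by omega⟩)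
  by_cases h42 : s < 42
  · exact conjE7_1_2 s (List.mem_range'_1.mpr ⟨by omega, by omega⟩)
  by_cases h56 : s < 56
  · exact conjE7_1_3 s (List.mem_range'_1.mpr ⟨by omega, by omega⟩)
  by_cases h70 : s < 70
  · exact conjE7_1_4 s (List.mem_range'_1.mpr ⟨by omega, by omega⟩)
  by_cases h84 : s < 84
  · exact conjE7_1_5 s (List.mem_range'_1.mpr ⟨by omega, by omega⟩)
  by_cases h98 : s < 98
  · exact conjE7_1_6 s (List.mem_range'_1.mpr ⟨by omega, by omega⟩)
  by_cases h112 : s < 112
  · exact conjE7_1_7 s (List.mem_range'_1.mpr ⟨by omega, by omega⟩)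
  exact conjE7_1_8 s (List.mem_range'_1.mpr ⟨by omega, by omega⟩)


end Cfsg.Agent.Lib.Helper6.ChevN
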