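import Mathlib
import Cfsg.Agent.Lib.Helper6.ChevConj
import Cfsg.Prelude.Def_ChevE8

/-!
# Tables of the elements n_p for E8 (helper6)

Generated tables and kernel checks.
-/

set_option autoImplicit false

namespace Cfsg.Agent.Lib.Helper6.ChevN

open Cfsg.Lie Cfsg.Agent.Lib.Helper6.ChevConj

/-- the matrix of `n_p(1)` for the fundamental root 0 of E8 -/
def tabE8_0 : Tab :=
  [[(0, -1)], [(1, 1)], [(2, 1), (0, 1)], [(3, 1)], [(4, 1)], [(5, 1)], [(6, 1)], [(7, 1)], [(8, 1)], [(9, 1)], [(10, 1)], [(11, 1)], [(12, 1)], [(13, 1)], [(22, -1)], [(15, 1)], [(23, -1)], [(24, -1)], [(25, -1)], [(26, -1)], [(27, -1)], [(28, -1)], [(14, 1)], [(16, 1)], [(17, 1)], [(18, 1)], [(19, 1)], [(20, 1)], [(21, 1)], [(29, 1)], [(30, 1)], [(31, 1)], [(32, 1)], [(33, 1)], [(34, 1)], [(35, 1)], [(36, 1)], [(37, 1)], [(38, 1)], [(39, 1)], [(40, 1)], [(41, 1)], [(42, 1)], [(43, 1)], [(44, 1)], [(45, 1)],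 [(46, 1)], [(47, 1)], [(48, 1)], [(49, 1)], [(50, 1)], [(51, 1)], [(52, 1)], [(53, 1)], [(54, 1)], [(55, 1)], [(56, 1)], [(57, 1)], [(58, 1)], [(59, 1)], [(60, 1)], [(61, 1)], [(62, 1)], [(63, 1)], [(86, 1)], [(87, 1)], [(88, 1)], [(89, 1)], [(90, 1)], [(91, 1)], [(92, 1)], [(93, 1)], [(94, 1)], [(95, 1)], [(96, 1)], [(97, 1)], [(98, 1)], [(99, 1)], [(100, 1)], [(107, 1)], [(108, 1)], [(109, 1)], [(110, 1)], [(111, 1)], [(112, 1)], [(170, -1)], [(64, -1)], [(65, -1)], [(66, -1)], [(67, -1)], [(68, -1)], [(69, -1)], [(70, -1)], [(71, -1)], [(72, -1)], [(73, -1)], [(74, -1)], [(75, -1)], [(76, -1)], [(77, -1)], [(78, -1)], [(101, 1)], [(102, 1)], [(103, 1)], [(104, 1)], [(105, 1)], [(106, 1)], [(79, -1)], [(80, -1)], [(81, -1)], [(82, -1)], [(83, -1)], [(84, -1)], [(113, 1)], [(114, 1)], [(115, 1)], [(116, 1)], [(117, 1)], [(118, 1)], [(119, 1)], [(120, 1)], [(121, 1)], [(122, 1)],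 [(123, 1)], [(124, 1)], [(125, 1)], [(126, 1)], [(127, 1)], [(128, 1)], [(129, 1)], [(130, 1)], [(131, 1)], [(132, 1)], [(133, 1)], [(134, 1)], [(135, 1)], [(136, 1)], [(137, 1)], [(138, 1)], [(139, 1)], [(140, 1)], [(141, 1)], [(142, 1)], [(171, -1)], [(172, -1)], [(173, -1)], [(174, -1)], [(175, -1)], [(176, -1)], [(149, 1)], [(150, 1)], [(151, 1)], [(152, 1)], [(153, 1)], [(154, 1)], [(177, -1)], [(178, -1)], [(179, -1)], [(180, -1)], [(181, -1)], [(182, -1)], [(183, -1)], [(184, -1)], [(185, -1)], [(186, -1)], [(187, -1)], [(188, -1)], [(189, -1)], [(190, -1)], [(191, -1)], [(85, -1)], [(143, 1)], [(144, 1)], [(145, 1)], [(146, 1)], [(147, 1)], [(148, 1)], [(155, 1)], [(156, 1)], [(157, 1)], [(158, 1)], [(159, 1)], [(160, 1)], [(161, 1)], [(162, 1)], [(163, 1)], [(164, 1)], [(165, 1)], [(166, 1)], [(167, 1)], [(168, 1)], [(169, 1)], [(192, 1)], [(193, 1)], [(194, 1)], [(195,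 1)], [(196, 1)], [(197, 1)], [(198, 1)], [(199, 1)], [(200, 1)], [(201, 1)], [(202, 1)], [(203, 1)], [(204, 1)], [(205, 1)], [(206, 1)], [(207, 1)], [(208, 1)], [(209, 1)], [(210, 1)], [(211, 1)], [(212, 1)], [(213, 1)], [(214, 1)], [(215, 1)], [(216, 1)], [(217, 1)], [(218, 1)], [(219, 1)], [(220, 1)], [(221, 1)], [(222, 1)], [(223, 1)], [(224, 1)], [(225, 1)], [(226, 1)], [(234, 1)], [(235, 1)], [(236, 1)], [(237, 1)], [(238, 1)], [(239, 1)], [(241, 1)], [(227, -1)], [(228, -1)], [(229, -1)], [(230, -1)], [(231, -1)], [(232, -1)], [(240, 1)], [(233, -1)], [(242, 1)], [(243, 1)], [(244, 1)], [(245, 1)], [(246, 1)], [(247, 1)]]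

/-- the matrix of `n_p(1)` for the fundamental root 1 of E8 -/
def tabE8_1 : Tab :=
  [[(0, 1)], [(1, -1)], [(2, 1)], [(3, 1), (1, 1)], [(4, 1)], [(5, 1)], [(6, 1)], [(7, 1)], [(8, 1)], [(9, 1)], [(10, 1)], [(11, 1)], [(12, 1)], [(15, -1)], [(16, -1)], [(13, 1)], [(14, 1)], [(17, 1)], [(18, 1)], [(19, 1)], [(20, 1)], [(21, 1)], [(23, -1)], [(22, 1)], [(24, 1)], [(25, 1)], [(26, 1)], [(27, 1)], [(28, 1)], [(29, 1)], [(30, 1)], [(31, 1)], [(32, 1)], [(33, 1)], [(44, -1)], [(45, -1)], [(46, -1)], [(47, -1)], [(48, -1)], [(49, -1)], [(50, -1)], [(51, -1)], [(52, -1)], [(53, -1)], [(34, 1)], [(35, 1)], [(36, 1)], [(37, 1)], [(38, 1)], [(39, 1)], [(40, 1)], [(41, 1)], [(42, 1)], [(43, 1)], [(54, 1)], [(55, 1)], [(56, 1)], [(57, 1)], [(58, 1)], [(59, 1)], [(60, 1)], [(61, 1)], [(62, 1)], [(63, 1)], [(64, 1)], [(65, 1)], [(66, 1)], [(67, 1)], [(68, 1)], [(69, 1)], [(70, 1)], [(71, 1)],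 [(72, 1)], [(73, 1)], [(79, -1)], [(80, -1)], [(81, -1)], [(82, -1)], [(83, -1)], [(74, 1)], [(75, 1)], [(76, 1)], [(77, 1)], [(78, 1)], [(84, 1)], [(85, 1)], [(86, 1)], [(87, 1)], [(88, 1)], [(89, 1)], [(90, 1)], [(91, 1)], [(92, 1)], [(93, 1)], [(94, 1)], [(95, 1)], [(107, -1)], [(108, -1)], [(109, -1)], [(110, -1)], [(111, -1)], [(113, 1)], [(114, 1)], [(115, 1)], [(116, 1)], [(117, 1)], [(149, -1)], [(96, 1)], [(97, 1)], [(98, 1)], [(99, 1)], [(100, 1)], [(112, 1)], [(101, -1)], [(102, -1)], [(103, -1)], [(104, -1)], [(105, -1)], [(118, 1)], [(119, 1)], [(120, 1)], [(121, 1)], [(122, 1)], [(123, 1)], [(124, 1)], [(125, 1)], [(126, 1)], [(127, 1)], [(128, 1)], [(129, 1)], [(130, 1)], [(131, 1)], [(132, 1)], [(133, 1)], [(134, 1)], [(135, 1)], [(136, 1)], [(137, 1)], [(150, -1)], [(151, -1)], [(152, -1)], [(153, -1)], [(154, -1)], [(143, 1)], [(155, 1)], [(156, 1)], [(157, 1)],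 [(158, 1)], [(159, 1)], [(106, -1)], [(138, 1)], [(139, 1)], [(140, 1)], [(141, 1)], [(142, 1)], [(144, -1)], [(145, -1)], [(146, -1)], [(147, -1)], [(148, -1)], [(160, 1)], [(161, 1)], [(162, 1)], [(163, 1)], [(164, 1)], [(165, 1)], [(166, 1)], [(167, 1)], [(168, 1)], [(169, 1)], [(170, 1)], [(171, 1)], [(177, 1)], [(178, 1)], [(179, 1)], [(180, 1)], [(181, 1)], [(172, -1)], [(173, -1)], [(174, -1)], [(175, -1)], [(176, -1)], [(182, 1)], [(183, 1)], [(184, 1)], [(185, 1)], [(186, 1)], [(187, 1)], [(188, 1)], [(189, 1)], [(190, 1)], [(191, 1)], [(192, 1)], [(193, 1)], [(194, 1)], [(195, 1)], [(196, 1)], [(197, 1)], [(198, 1)], [(199, 1)], [(200, 1)], [(201, 1)], [(212, 1)], [(213, 1)], [(214, 1)], [(215, 1)], [(216, 1)], [(217, 1)], [(218, 1)], [(219, 1)], [(220, 1)], [(221, 1)], [(202, -1)], [(203, -1)], [(204, -1)], [(205, -1)], [(206, -1)], [(207, -1)], [(208, -1)], [(209, -1)],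 [(210, -1)], [(211, -1)], [(222, 1)], [(223, 1)], [(224, 1)], [(225, 1)], [(226, 1)], [(227, 1)], [(228, 1)], [(229, 1)], [(230, 1)], [(231, 1)], [(233, 1)], [(232, -1)], [(234, 1)], [(235, 1)], [(236, 1)], [(237, 1)], [(238, 1)], [(241, 1)], [(242, 1)], [(239, -1)], [(240, -1)], [(243, 1)], [(244, 1)], [(245, 1)], [(246, 1)], [(247, 1)]]

/-- the matrix of `n_p(1)` for the fundamental root 2 of E8 -/
def tabE8_2 : Tab :=
  [[(2, 1), (0, 1)], [(1, 1)], [(2, -1)], [(3, 1), (2, 1)], [(4, 1)], [(5, 1)], [(6, 1)], [(7, 1)], [(8, 1)], [(9, 1)], [(10, 1)], [(11, 1)], [(12, 1)], [(14, -1)], [(13, 1)], [(16, -1)], [(15, 1)], [(17, 1)], [(18, 1)], [(19, 1)], [(20, 1)], [(21, 1)], [(22, 1)], [(23, 1)], [(29, -1)], [(30, -1)], [(31, -1)], [(32, -1)], [(33, -1)], [(24, 1)], [(25, 1)], [(26, 1)], [(27, 1)], [(28, 1)], [(34, 1)], [(35, 1)], [(36, 1)], [(37, 1)], [(38, 1)], [(39, 1)], [(40, 1)],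 [(41, 1)], [(42, 1)], [(43, 1)], [(44, 1)], [(45, 1)], [(46, 1)], [(47, 1)], [(48, 1)], [(49, 1)], [(50, 1)], [(51, 1)], [(52, 1)], [(53, 1)], [(64, -1)], [(65, -1)], [(66, -1)], [(67, -1)], [(68, -1)], [(69, -1)], [(70, -1)], [(71, -1)], [(72, -1)], [(73, -1)], [(54, 1)], [(55, 1)], [(56, 1)], [(57, 1)], [(58, 1)], [(59, 1)], [(60, 1)], [(61, 1)], [(62, 1)], [(63, 1)], [(74, 1)], [(75, 1)], [(76, 1)], [(77, 1)], [(78, 1)], [(79, 1)], [(80, 1)], [(81, 1)], [(82, 1)], [(83, 1)], [(85, -1)], [(84, 1)], [(86, 1)], [(87, 1)], [(88, 1)], [(89, 1)], [(90, 1)], [(91, 1)], [(92, 1)], [(93, 1)], [(94, 1)], [(95, 1)], [(101, -1)], [(102, -1)], [(103, -1)], [(104, -1)], [(105, -1)], [(96, 1)], [(97, 1)], [(98, 1)], [(99, 1)], [(100, 1)], [(106, 1)], [(113, 1)], [(114, 1)], [(115, 1)], [(116, 1)], [(117, 1)], [(143, -1)], [(107, -1)], [(108, -1)], [(109, -1)], [(110, -1)], [(111, -1)], [(118,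 1)], [(119, 1)], [(120, 1)], [(121, 1)], [(122, 1)], [(123, 1)], [(124, 1)], [(125, 1)], [(126, 1)], [(127, 1)], [(128, 1)], [(129, 1)], [(130, 1)], [(131, 1)], [(132, 1)], [(133, 1)], [(134, 1)], [(135, 1)], [(136, 1)], [(137, 1)], [(144, -1)], [(145, -1)], [(146, -1)], [(147, -1)], [(148, -1)], [(112, -1)], [(138, 1)], [(139, 1)], [(140, 1)], [(141, 1)], [(142, 1)], [(149, 1)], [(155, 1)], [(156, 1)], [(157, 1)], [(158, 1)], [(159, 1)], [(150, -1)], [(151, -1)], [(152, -1)], [(153, -1)], [(154, -1)], [(160, 1)], [(161, 1)], [(162, 1)], [(163, 1)], [(164, 1)], [(165, 1)], [(166, 1)], [(167, 1)], [(168, 1)], [(169, 1)], [(171, 1)], [(170, -1)], [(172, 1)], [(173, 1)], [(174, 1)], [(175, 1)], [(176, 1)], [(177, 1)], [(178, 1)], [(179, 1)], [(180, 1)], [(181, 1)], [(192, 1)], [(193, 1)], [(194, 1)], [(195, 1)], [(196, 1)], [(197, 1)], [(198, 1)], [(199, 1)], [(200, 1)], [(201, 1)],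 [(182, -1)], [(183, -1)], [(184, -1)], [(185, -1)], [(186, -1)], [(187, -1)], [(188, -1)], [(189, -1)], [(190, -1)], [(191, -1)], [(202, 1)], [(203, 1)], [(204, 1)], [(205, 1)], [(206, 1)], [(207, 1)], [(208, 1)], [(209, 1)], [(210, 1)], [(211, 1)], [(212, 1)], [(213, 1)], [(214, 1)], [(215, 1)], [(216, 1)], [(217, 1)], [(218, 1)], [(219, 1)], [(220, 1)], [(221, 1)], [(227, 1)], [(228, 1)], [(229, 1)], [(230, 1)], [(231, 1)], [(222, -1)], [(223, -1)], [(224, -1)], [(225, -1)], [(226, -1)], [(232, 1)], [(233, 1)], [(234, 1)], [(235, 1)], [(236, 1)], [(237, 1)], [(238, 1)], [(240, 1)], [(239, -1)], [(242, 1)], [(241, -1)], [(243, 1)], [(244, 1)], [(245, 1)], [(246, 1)], [(247, 1)]]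

/-- the matrix of `n_p(1)` for the fundamental root 3 of E8 -/
def tabE8_3 : Tab :=
  [[(0, 1)], [(3, 1), (1, 1)], [(3, 1), (2, 1)], [(3, -1)], [(4, 1), (3, 1)], [(5, 1)], [(6, 1)], [(7, 1)], [(8, 1)], [(9, 1)], [(10, 1)], [(11, 1)], [(13, -1)], [(12, 1)], [(14, 1)], [(15, 1)], [(17, -1)], [(16, 1)], [(18, 1)], [(19, 1)], [(20, 1)], [(21, 1)], [(22, 1)], [(24, -1)], [(23, 1)], [(25, 1)], [(26, 1)], [(27, 1)], [(28, 1)], [(29, 1)], [(34, -1)], [(35, -1)], [(36, -1)], [(37, -1)], [(30, 1)], [(31, 1)], [(32, 1)], [(33, 1)], [(38, 1)], [(39, 1)], [(40, 1)], [(41, 1)], [(42, 1)], [(43, 1)], [(44, 1)], [(45, 1)], [(46, 1)], [(47, 1)], [(54, -1)], [(55, -1)], [(56, -1)], [(57, -1)], [(58, -1)], [(59, -1)], [(48, 1)], [(49, 1)], [(50, 1)], [(51, 1)], [(52, 1)], [(53, 1)], [(60, 1)], [(61, 1)], [(62, 1)], [(63, 1)], [(64, 1)], [(65, 1)], [(66, 1)], [(67, 1)], [(68, 1)], [(69, 1)], [(74,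 -1)], [(75, -1)], [(76, -1)], [(77, -1)], [(70, 1)], [(71, 1)], [(72, 1)], [(73, 1)], [(78, 1)], [(79, 1)], [(80, 1)], [(81, 1)], [(82, 1)], [(84, -1)], [(83, 1)], [(85, 1)], [(86, 1)], [(87, 1)], [(88, 1)], [(89, 1)], [(90, 1)], [(91, 1)], [(96, -1)], [(97, -1)], [(98, -1)], [(99, -1)], [(92, 1)], [(93, 1)], [(94, 1)], [(95, 1)], [(100, 1)], [(101, 1)], [(102, 1)], [(103, 1)], [(104, 1)], [(106, -1)], [(105, 1)], [(107, 1)], [(108, 1)], [(109, 1)], [(110, 1)], [(112, -1)], [(111, 1)], [(118, 1)], [(119, 1)], [(120, 1)], [(121, 1)], [(138, -1)], [(113, -1)], [(114, -1)], [(115, -1)], [(116, -1)], [(122, 1)], [(123, 1)], [(124, 1)], [(125, 1)], [(126, 1)], [(127, 1)], [(128, 1)], [(129, 1)], [(130, 1)], [(131, 1)], [(132, 1)], [(133, 1)], [(139, -1)], [(140, -1)], [(141, -1)], [(142, -1)], [(117, -1)], [(134, 1)], [(135, 1)], [(136, 1)], [(137, 1)], [(144, 1)], [(143, -1)], [(145,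 1)], [(146, 1)], [(147, 1)], [(148, 1)], [(150, 1)], [(149, -1)], [(151, 1)], [(152, 1)], [(153, 1)], [(154, 1)], [(155, 1)], [(160, 1)], [(161, 1)], [(162, 1)], [(163, 1)], [(156, -1)], [(157, -1)], [(158, -1)], [(159, -1)], [(164, 1)], [(165, 1)], [(166, 1)], [(167, 1)], [(168, 1)], [(169, 1)], [(170, 1)], [(172, 1)], [(171, -1)], [(173, 1)], [(174, 1)], [(175, 1)], [(176, 1)], [(177, 1)], [(182, 1)], [(183, 1)], [(184, 1)], [(185, 1)], [(178, -1)], [(179, -1)], [(180, -1)], [(181, -1)], [(186, 1)], [(187, 1)], [(188, 1)], [(189, 1)], [(190, 1)], [(191, 1)], [(192, 1)], [(193, 1)], [(194, 1)], [(195, 1)], [(202, 1)], [(203, 1)], [(204, 1)], [(205, 1)], [(206, 1)], [(207, 1)], [(196, -1)], [(197, -1)], [(198, -1)], [(199, -1)], [(200, -1)], [(201, -1)], [(208, 1)], [(209, 1)], [(210, 1)], [(211, 1)], [(212, 1)], [(213, 1)], [(214, 1)], [(215, 1)], [(216, 1)], [(217, 1)], [(222,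 1)], [(223, 1)], [(224, 1)], [(225, 1)], [(218, -1)], [(219, -1)], [(220, -1)], [(221, -1)], [(226, 1)], [(227, 1)], [(228, 1)], [(229, 1)], [(230, 1)], [(232, 1)], [(231, -1)], [(233, 1)], [(234, 1)], [(235, 1)], [(236, 1)], [(237, 1)], [(239, 1)], [(238, -1)], [(240, 1)], [(241, 1)], [(243, 1)], [(242, -1)], [(244, 1)], [(245, 1)], [(246, 1)], [(247, 1)]]

/-- the matrix of `n_p(1)` for the fundamental root 4 of E8 -/
def tabE8_4 : Tab :=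
  [[(0, 1)], [(1, 1)], [(2, 1)], [(4, 1), (3, 1)], [(4, -1)], [(5, 1), (4, 1)], [(6, 1)], [(7, 1)], [(8, 1)], [(9, 1)], [(10, 1)], [(12, -1)], [(11, 1)], [(13, 1)], [(14, 1)], [(15, 1)], [(16, 1)], [(18, -1)], [(17, 1)], [(19, 1)], [(20, 1)], [(21, 1)], [(22, 1)], [(23, 1)], [(25, -1)], [(24, 1)], [(26, 1)], [(27, 1)], [(28, 1)], [(30, -1)], [(29, 1)], [(31, 1)], [(32, 1)], [(33, 1)], [(34, 1)], [(38, -1)], [(39, -1)], [(40, -1)], [(35, 1)], [(36, 1)], [(37, 1)], [(41, 1)], [(42, 1)], [(43, 1)], [(44, 1)], [(48, -1)], [(49, -1)], [(50, -1)], [(45, 1)], [(46, 1)], [(47, 1)], [(51, 1)], [(52, 1)], [(53, 1)], [(54, 1)], [(55, 1)], [(56, 1)], [(60, -1)], [(61, -1)], [(62, -1)], [(57, 1)], [(58, 1)], [(59, 1)], [(63, 1)], [(64, 1)], [(65, 1)], [(66, 1)], [(70, -1)], [(71, -1)], [(72, -1)], [(67, 1)], [(68, 1)], [(69, 1)], [(73, 1)], [(74, 1)], [(75, 1)], [(76, 1)], [(78, -1)], [(77,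 1)], [(79, 1)], [(80, 1)], [(81, 1)], [(83, -1)], [(82, 1)], [(84, 1)], [(85, 1)], [(86, 1)], [(87, 1)], [(88, 1)], [(92, -1)], [(93, -1)], [(94, -1)], [(89, 1)], [(90, 1)], [(91, 1)], [(95, 1)], [(96, 1)], [(97, 1)], [(98, 1)], [(100, -1)], [(99, 1)], [(101, 1)], [(102, 1)], [(103, 1)], [(105, -1)], [(104, 1)], [(106, 1)], [(107, 1)], [(108, 1)], [(109, 1)], [(111, -1)], [(110, 1)], [(112, 1)], [(113, 1)], [(114, 1)], [(115, 1)], [(117, -1)], [(116, 1)], [(122, 1)], [(123, 1)], [(124, 1)], [(134, -1)], [(118, -1)], [(119, -1)], [(120, -1)], [(125, 1)], [(126, 1)], [(127, 1)], [(128, 1)], [(129, 1)], [(130, 1)], [(135, -1)], [(136, -1)], [(137, -1)], [(121, -1)], [(131, 1)], [(132, 1)], [(133, 1)], [(139, 1)], [(138, -1)], [(140, 1)], [(141, 1)], [(142, 1)], [(143, 1)], [(145, 1)], [(144, -1)], [(146, 1)], [(147, 1)], [(148, 1)], [(149, 1)], [(151, 1)], [(150, -1)], [(152, 1)],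 [(153, 1)], [(154, 1)], [(156, 1)], [(155, -1)], [(157, 1)], [(158, 1)], [(159, 1)], [(160, 1)], [(164, 1)], [(165, 1)], [(166, 1)], [(161, -1)], [(162, -1)], [(163, -1)], [(167, 1)], [(168, 1)], [(169, 1)], [(170, 1)], [(171, 1)], [(173, 1)], [(172, -1)], [(174, 1)], [(175, 1)], [(176, 1)], [(178, 1)], [(177, -1)], [(179, 1)], [(180, 1)], [(181, 1)], [(182, 1)], [(186, 1)], [(187, 1)], [(188, 1)], [(183, -1)], [(184, -1)], [(185, -1)], [(189, 1)], [(190, 1)], [(191, 1)], [(192, 1)], [(196, 1)], [(197, 1)], [(198, 1)], [(193, -1)], [(194, -1)], [(195, -1)], [(199, 1)], [(200, 1)], [(201, 1)], [(202, 1)], [(203, 1)], [(204, 1)], [(208, 1)], [(209, 1)], [(210, 1)], [(205, -1)], [(206, -1)], [(207, -1)], [(211, 1)], [(212, 1)], [(213, 1)], [(214, 1)], [(218, 1)], [(219, 1)], [(220, 1)], [(215, -1)], [(216, -1)], [(217, -1)], [(221, 1)], [(222, 1)], [(223, 1)], [(224, 1)], [(226, 1)],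 [(225, -1)], [(227, 1)], [(228, 1)], [(229, 1)], [(231, 1)], [(230, -1)], [(232, 1)], [(233, 1)], [(234, 1)], [(235, 1)], [(236, 1)], [(238, 1)], [(237, -1)], [(239, 1)], [(240, 1)], [(241, 1)], [(242, 1)], [(244, 1)], [(243, -1)], [(245, 1)], [(246, 1)], [(247, 1)]]

/-- the matrix of `n_p(1)` for the fundamental root 5 of E8 -/
def tabE8_5 : Tab :=
  [[(0, 1)], [(1, 1)], [(2, 1)], [(3, 1)], [(5, 1), (4, 1)], [(5, -1)], [(6, 1), (5, 1)], [(7, 1)], [(8, 1)], [(9, 1)], [(11, -1)], [(10, 1)], [(12, 1)], [(13, 1)], [(14, 1)], [(15, 1)], [(16, 1)], [(17, 1)], [(19, -1)], [(18, 1)], [(20, 1)], [(21, 1)], [(22, 1)], [(23, 1)], [(24, 1)], [(26, -1)], [(25, 1)], [(27, 1)], [(28, 1)], [(29, 1)], [(31, -1)], [(30, 1)], [(32, 1)], [(33, 1)], [(35, -1)], [(34, 1)], [(36, 1)], [(37, 1)], [(38, 1)], [(41, -1)], [(42, -1)], [(39, 1)], [(40, 1)], [(43, 1)], [(45, -1)], [(44, 1)], [(46, 1)], [(47,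 1)], [(48, 1)], [(51, -1)], [(52, -1)], [(49, 1)], [(50, 1)], [(53, 1)], [(54, 1)], [(57, -1)], [(58, -1)], [(55, 1)], [(56, 1)], [(59, 1)], [(60, 1)], [(61, 1)], [(63, -1)], [(62, 1)], [(64, 1)], [(67, -1)], [(68, -1)], [(65, 1)], [(66, 1)], [(69, 1)], [(70, 1)], [(71, 1)], [(73, -1)], [(72, 1)], [(74, 1)], [(75, 1)], [(77, -1)], [(76, 1)], [(78, 1)], [(79, 1)], [(80, 1)], [(82, -1)], [(81, 1)], [(83, 1)], [(84, 1)], [(85, 1)], [(86, 1)], [(89, -1)], [(90, -1)], [(87, 1)], [(88, 1)], [(91, 1)], [(92, 1)], [(93, 1)], [(95, -1)], [(94, 1)], [(96, 1)], [(97, 1)], [(99, -1)], [(98, 1)], [(100, 1)], [(101, 1)], [(102, 1)], [(104, -1)], [(103, 1)], [(105, 1)], [(106, 1)], [(107, 1)], [(108, 1)], [(110, -1)], [(109, 1)], [(111, 1)], [(112, 1)], [(113, 1)], [(114, 1)], [(116, -1)], [(115, 1)], [(117, 1)], [(118, 1)], [(119, 1)], [(121, -1)], [(120, 1)], [(125, 1)], [(126, 1)], [(131,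 -1)], [(122, -1)], [(123, -1)], [(127, 1)], [(128, 1)], [(132, -1)], [(133, -1)], [(124, -1)], [(129, 1)], [(130, 1)], [(135, 1)], [(134, -1)], [(136, 1)], [(137, 1)], [(138, 1)], [(140, 1)], [(139, -1)], [(141, 1)], [(142, 1)], [(143, 1)], [(144, 1)], [(146, 1)], [(145, -1)], [(147, 1)], [(148, 1)], [(149, 1)], [(150, 1)], [(152, 1)], [(151, -1)], [(153, 1)], [(154, 1)], [(155, 1)], [(157, 1)], [(156, -1)], [(158, 1)], [(159, 1)], [(161, 1)], [(160, -1)], [(162, 1)], [(163, 1)], [(164, 1)], [(167, 1)], [(168, 1)], [(165, -1)], [(166, -1)], [(169, 1)], [(170, 1)], [(171, 1)], [(172, 1)], [(174, 1)], [(173, -1)], [(175, 1)], [(176, 1)], [(177, 1)], [(179, 1)], [(178, -1)], [(180, 1)], [(181, 1)], [(183, 1)], [(182, -1)], [(184, 1)], [(185, 1)], [(186, 1)], [(189, 1)], [(190, 1)], [(187, -1)], [(188, -1)], [(191, 1)], [(193, 1)], [(192, -1)], [(194, 1)], [(195, 1)], [(196, 1)], [(199,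 1)], [(200, 1)], [(197, -1)], [(198, -1)], [(201, 1)], [(202, 1)], [(205, 1)], [(206, 1)], [(203, -1)], [(204, -1)], [(207, 1)], [(208, 1)], [(209, 1)], [(211, 1)], [(210, -1)], [(212, 1)], [(215, 1)], [(216, 1)], [(213, -1)], [(214, -1)], [(217, 1)], [(218, 1)], [(219, 1)], [(221, 1)], [(220, -1)], [(222, 1)], [(223, 1)], [(225, 1)], [(224, -1)], [(226, 1)], [(227, 1)], [(228, 1)], [(230, 1)], [(229, -1)], [(231, 1)], [(232, 1)], [(233, 1)], [(234, 1)], [(235, 1)], [(237, 1)], [(236, -1)], [(238, 1)], [(239, 1)], [(240, 1)], [(241, 1)], [(242, 1)], [(243, 1)], [(245, 1)], [(244, -1)], [(246, 1)], [(247, 1)]]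

/-- the matrix of `n_p(1)` for the fundamental root 6 of E8 -/
def tabE8_6 : Tab :=
  [[(0, 1)], [(1, 1)], [(2, 1)], [(3, 1)], [(4, 1)], [(6, 1), (5, 1)], [(6, -1)], [(7, 1), (6, 1)], [(8, 1)], [(10, -1)], [(9, 1)], [(11, 1)], [(12, 1)], [(13, 1)], [(14, 1)], [(15, 1)], [(16, 1)], [(17, 1)], [(18, 1)], [(20, -1)], [(19, 1)], [(21, 1)], [(22, 1)], [(23, 1)], [(24, 1)], [(25, 1)], [(27, -1)], [(26, 1)], [(28, 1)], [(29, 1)], [(30, 1)], [(32, -1)], [(31, 1)], [(33, 1)], [(34, 1)], [(36, -1)], [(35, 1)], [(37, 1)], [(39, -1)], [(38, 1)], [(40, 1)], [(41, 1)], [(43, -1)], [(42, 1)], [(44, 1)], [(46, -1)], [(45, 1)], [(47, 1)], [(49, -1)], [(48, 1)], [(50, 1)], [(51, 1)], [(53, -1)], [(52, 1)], [(55, -1)], [(54, 1)], [(56, 1)], [(57, 1)], [(59, -1)], [(58, 1)], [(60, 1)], [(62, -1)], [(61, 1)], [(63, 1)], [(65, -1)], [(64, 1)], [(66, 1)], [(67, 1)], [(69, -1)], [(68, 1)], [(70, 1)],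 [(72, -1)], [(71, 1)], [(73, 1)], [(74, 1)], [(76, -1)], [(75, 1)], [(77, 1)], [(78, 1)], [(79, 1)], [(81, -1)], [(80, 1)], [(82, 1)], [(83, 1)], [(84, 1)], [(85, 1)], [(87, -1)], [(86, 1)], [(88, 1)], [(89, 1)], [(91, -1)], [(90, 1)], [(92, 1)], [(94, -1)], [(93, 1)], [(95, 1)], [(96, 1)], [(98, -1)], [(97, 1)], [(99, 1)], [(100, 1)], [(101, 1)], [(103, -1)], [(102, 1)], [(104, 1)], [(105, 1)], [(106, 1)], [(107, 1)], [(109, -1)], [(108, 1)], [(110, 1)], [(111, 1)], [(112, 1)], [(113, 1)], [(115, -1)], [(114, 1)], [(116, 1)], [(117, 1)], [(118, 1)], [(120, -1)], [(119, 1)], [(121, 1)], [(122, 1)], [(124, -1)], [(123, 1)], [(127, 1)], [(129, -1)], [(125, -1)], [(130, -1)], [(126, -1)], [(128, 1)], [(132, 1)], [(131, -1)], [(133, 1)], [(134, 1)], [(136, 1)], [(135, -1)], [(137, 1)], [(138, 1)], [(139, 1)], [(141, 1)], [(140, -1)], [(142, 1)], [(143, 1)], [(144, 1)], [(145, 1)],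 [(147, 1)], [(146, -1)], [(148, 1)], [(149, 1)], [(150, 1)], [(151, 1)], [(153, 1)], [(152, -1)], [(154, 1)], [(155, 1)], [(156, 1)], [(158, 1)], [(157, -1)], [(159, 1)], [(160, 1)], [(162, 1)], [(161, -1)], [(163, 1)], [(165, 1)], [(164, -1)], [(166, 1)], [(167, 1)], [(169, 1)], [(168, -1)], [(170, 1)], [(171, 1)], [(172, 1)], [(173, 1)], [(175, 1)], [(174, -1)], [(176, 1)], [(177, 1)], [(178, 1)], [(180, 1)], [(179, -1)], [(181, 1)], [(182, 1)], [(184, 1)], [(183, -1)], [(185, 1)], [(187, 1)], [(186, -1)], [(188, 1)], [(189, 1)], [(191, 1)], [(190, -1)], [(192, 1)], [(194, 1)], [(193, -1)], [(195, 1)], [(197, 1)], [(196, -1)], [(198, 1)], [(199, 1)], [(201, 1)], [(200, -1)], [(203, 1)], [(202, -1)], [(204, 1)], [(205, 1)], [(207, 1)], [(206, -1)], [(208, 1)], [(210, 1)], [(209, -1)], [(211, 1)], [(213, 1)], [(212, -1)], [(214, 1)], [(215, 1)], [(217, 1)], [(216, -1)], [(218,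 1)], [(220, 1)], [(219, -1)], [(221, 1)], [(222, 1)], [(224, 1)], [(223, -1)], [(225, 1)], [(226, 1)], [(227, 1)], [(229, 1)], [(228, -1)], [(230, 1)], [(231, 1)], [(232, 1)], [(233, 1)], [(234, 1)], [(236, 1)], [(235, -1)], [(237, 1)], [(238, 1)], [(239, 1)], [(240, 1)], [(241, 1)], [(242, 1)], [(243, 1)], [(244, 1)], [(246, 1)], [(245, -1)], [(247, 1)]]

/-- the matrix of `n_p(1)` for the fundamental root 7 of E8 -/
def tabE8_7 : Tab :=
  [[(0, 1)], [(1, 1)], [(2, 1)], [(3, 1)], [(4, 1)], [(5, 1)], [(7, 1), (6, 1)], [(7, -1)], [(9, -1)], [(8, 1)], [(10, 1)], [(11, 1)], [(12, 1)], [(13, 1)], [(14, 1)], [(15, 1)], [(16, 1)], [(17, 1)], [(18, 1)], [(19, 1)], [(21, -1)], [(20, 1)], [(22, 1)], [(23, 1)], [(24, 1)], [(25, 1)], [(26, 1)], [(28, -1)], [(27, 1)], [(29, 1)], [(30, 1)], [(31, 1)], [(33, -1)], [(32, 1)], [(34, 1)], [(35, 1)], [(37, -1)], [(36, 1)], [(38, 1)], [(40, -1)],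 [(39, 1)], [(42, -1)], [(41, 1)], [(43, 1)], [(44, 1)], [(45, 1)], [(47, -1)], [(46, 1)], [(48, 1)], [(50, -1)], [(49, 1)], [(52, -1)], [(51, 1)], [(53, 1)], [(54, 1)], [(56, -1)], [(55, 1)], [(58, -1)], [(57, 1)], [(59, 1)], [(61, -1)], [(60, 1)], [(62, 1)], [(63, 1)], [(64, 1)], [(66, -1)], [(65, 1)], [(68, -1)], [(67, 1)], [(69, 1)], [(71, -1)], [(70, 1)], [(72, 1)], [(73, 1)], [(75, -1)], [(74, 1)], [(76, 1)], [(77, 1)], [(78, 1)], [(80, -1)], [(79, 1)], [(81, 1)], [(82, 1)], [(83, 1)], [(84, 1)], [(85, 1)], [(86, 1)], [(88, -1)], [(87, 1)], [(90, -1)], [(89, 1)], [(91, 1)], [(93, -1)], [(92, 1)], [(94, 1)], [(95, 1)], [(97, -1)], [(96, 1)], [(98, 1)], [(99, 1)], [(100, 1)], [(102, -1)], [(101, 1)], [(103, 1)], [(104, 1)], [(105, 1)], [(106, 1)], [(108, -1)], [(107, 1)], [(109, 1)], [(110, 1)], [(111, 1)], [(112, 1)], [(114, -1)], [(113, 1)], [(115, 1)], [(116, 1)], [(117,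 1)], [(119, -1)], [(118, 1)], [(120, 1)], [(121, 1)], [(123, -1)], [(122, 1)], [(124, 1)], [(126, -1)], [(125, 1)], [(128, -1)], [(127, -1)], [(130, 1)], [(129, -1)], [(131, 1)], [(133, 1)], [(132, -1)], [(134, 1)], [(135, 1)], [(137, 1)], [(136, -1)], [(138, 1)], [(139, 1)], [(140, 1)], [(142, 1)], [(141, -1)], [(143, 1)], [(144, 1)], [(145, 1)], [(146, 1)], [(148, 1)], [(147, -1)], [(149, 1)], [(150, 1)], [(151, 1)], [(152, 1)], [(154, 1)], [(153, -1)], [(155, 1)], [(156, 1)], [(157, 1)], [(159, 1)], [(158, -1)], [(160, 1)], [(161, 1)], [(163, 1)], [(162, -1)], [(164, 1)], [(166, 1)], [(165, -1)], [(168, 1)], [(167, -1)], [(169, 1)], [(170, 1)], [(171, 1)], [(172, 1)], [(173, 1)], [(174, 1)], [(176, 1)], [(175, -1)], [(177, 1)], [(178, 1)], [(179, 1)], [(181, 1)], [(180, -1)], [(182, 1)], [(183, 1)], [(185, 1)], [(184, -1)], [(186, 1)], [(188, 1)], [(187, -1)], [(190, 1)], [(189,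 -1)], [(191, 1)], [(192, 1)], [(193, 1)], [(195, 1)], [(194, -1)], [(196, 1)], [(198, 1)], [(197, -1)], [(200, 1)], [(199, -1)], [(201, 1)], [(202, 1)], [(204, 1)], [(203, -1)], [(206, 1)], [(205, -1)], [(207, 1)], [(209, 1)], [(208, -1)], [(210, 1)], [(211, 1)], [(212, 1)], [(214, 1)], [(213, -1)], [(216, 1)], [(215, -1)], [(217, 1)], [(219, 1)], [(218, -1)], [(220, 1)], [(221, 1)], [(223, 1)], [(222, -1)], [(224, 1)], [(225, 1)], [(226, 1)], [(228, 1)], [(227, -1)], [(229, 1)], [(230, 1)], [(231, 1)], [(232, 1)], [(233, 1)], [(235, 1)], [(234, -1)], [(236, 1)], [(237, 1)], [(238, 1)], [(239, 1)], [(240, 1)], [(241, 1)], [(242, 1)], [(243, 1)], [(244, 1)], [(245, 1)], [(247, 1)], [(246, -1)]]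


end Cfsg.Agent.Lib.Helper6.ChevN
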