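import Mathlib
import Cfsg.Agent.Lib.Helper6.ChevConj
import Cfsg.Agent.Lib.Helper6.ChevN.E8Tab

/-!
# The element n_p for E8, fundamental root 0, second half (helper6)

Generated tables and kernel checks.
-/

set_option autoImplicit false

namespace Cfsg.Agent.Lib.Helper6.ChevN

open Cfsg.Lie Cfsg.Agent.Lib.Helper6.ChevConj

set_option maxHeartbeats 0 in
set_option maxRecDepth 100000 in
theorem conjE8_0b_0 : nConjCheckL chevE8 tabE8_0 0 (List.range' 120 8) := by
  decide +kernel

set_option maxHeartbeats 0 in
set_option maxRecDepth 100000 in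
theorem conjE8_0b_1 : nConjCheckL chevE8 tabE8_0 0 (List.range' 128 8) := by
  decide +kernel

set_option maxHeartbeats 0 in
set_option maxRecDepth 100000 in
theorem conjE8_0b_2 : nConjCheckL chevE8 tabE8_0 0 (List.range' 136 8) := by
  decide +kernel

set_option maxHeartbeats 0 in
set_option maxRecDepth 100000 in
theorem conjE8_0b_3 : nConjCheckL chevE8 tabE8_0 0 (List.range' 144 8) := by
  decide +kernel

set_option maxHeartbeats 0 in
set_option maxRecDepth 100000 in
theorem conjE8_0b_4 : nConjCheckL chevE8 tabE8_0 0 (List.range' 152 8) := by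
  decide +kernel

set_option maxHeartbeats 0 in
set_option maxRecDepth 100000 in
theorem conjE8_0b_5 : nConjCheckL chevE8 tabE8_0 0 (List.range' 160 8) := by
  decide +kernel

set_option maxHeartbeats 0 in
set_option maxRecDepth 100000 in
theorem conjE8_0b_6 : nConjCheckL chevE8 tabE8_0 0 (List.range' 168 8) := by
  decide +kernel

set_option maxHeartbeats 0 in
set_option maxRecDepth 100000 in
theorem conjE8_0b_7 : nConjCheckL chevE8 tabE8_0 0 (List.range' 176 8) := by
  decide +kernel

set_option maxHeartbeats 0 in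
set_option maxRecDepth 100000 in
theorem conjE8_0b_8 : nConjCheckL chevE8 tabE8_0 0 (List.range' 184 8) := by
  decide +kernel

set_option maxHeartbeats 0 in
set_option maxRecDepth 100000 in
theorem conjE8_0b_9 : nConjCheckL chevE8 tabE8_0 0 (List.range' 192 8) := by
  decide +kernel

set_option maxHeartbeats 0 in
set_option maxRecDepth 100000 in
theorem conjE8_0b_10 : nConjCheckL chevE8 tabE8_0 0 (List.range' 200 8) := by
  decide +kernel

set_option maxHeartbeats 0 in
set_option maxRecDepth 100000 in
theorem conjE8_0b_11 : nConjCheckL chevE8 tabE8_0 0 (List.range' 208 8) := by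
  decide +kernel

set_option maxHeartbeats 0 in
set_option maxRecDepth 100000 in
theorem conjE8_0b_12 : nConjCheckL chevE8 tabE8_0 0 (List.range' 216 8) := by
  decide +kernel

set_option maxHeartbeats 0 in
set_option maxRecDepth 100000 in
theorem conjE8_0b_13 : nConjCheckL chevE8 tabE8_0 0 (List.range' 224 8) := by
  decide +kernel

set_option maxHeartbeats 0 in
set_option maxRecDepth 100000 in
theorem conjE8_0b_14 : nConjCheckL chevE8 tabE8_0 0 (List.range' 232 8) := by
  decide +kernel

theorem conjE8_0b (s : ℕ) (h1 : 120 ≤ s) (h2 : s < 240) : nConjCheck chevE8 tabE8_0 0 s := by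
  by_cases h128 : s < 128
  · exact conjE8_0b_0 s (List.mem_range'_1.mpr ⟨by omega, by omega⟩)
  by_cases h136 : s < 136
  · exact conjE8_0b_1 s (List.mem_range'_1.mpr ⟨by omega, by omega⟩)
  by_cases h144 : s < 144
  · exact conjE8_0b_2 s (List.mem_range'_1.mpr ⟨by omega, by omega⟩)
  by_cases h152 : s < 152
  · exact conjE8_0b_3 s (List.mem_range'_1.mpr ⟨by omega, by omega⟩)
  by_cases h160 : s < 160
  · exact conjE8_0b_4 s (List.mem_range'_1.mpr ⟨by omega, by omega⟩)
  by_cases h168 : s < 168
  · exact conjE8_0b_5 s (List.mem_range'_1.mpr ⟨by omega, by omega⟩)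
  by_cases h176 : s < 176
  · exact conjE8_0b_6 s (List.mem_range'_1.mpr ⟨by omega, by omega⟩)
  by_cases h184 : s < 184
  · exact conjE8_0b_7 s (List.mem_range'_1.mpr ⟨by omega, by omega⟩)
  by_cases h192 : s < 192
  · exact conjE8_0b_8 s (List.mem_range'_1.mpr ⟨by omega, by omega⟩)
  by_cases h200 : s < 200
  · exact conjE8_0b_9 s (List.mem_range'_1.mpr ⟨by omega, by omega⟩)
  by_cases h208 : s < 208
  · exact conjE8_0b_10 s (List.mem_range'_1.mpr ⟨by omega, by omega⟩)
  by_cases h216 : s < 216
  · exact conjE8_0b_11 s (List.mem_range'_1.mpr ⟨by omega, by omega⟩)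
  by_cases h224 : s < 224
  · exact conjE8_0b_12 s (List.mem_range'_1.mpr ⟨by omega, by omega⟩)
  by_cases h232 : s < 232
  · exact conjE8_0b_13 s (List.mem_range'_1.mpr ⟨by omega, by omega⟩)
  exact conjE8_0b_14 s (List.mem_range'_1.mpr ⟨by omega, by omega⟩)


end Cfsg.Agent.Lib.Helper6.ChevN
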