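import Mathlib
import Cfsg.Agent.Lib.Helper6.ChevConj
import Cfsg.Agent.Lib.Helper6.ChevN.E8Tab

/-!
# The element n_p for E8, fundamental root 1, first half (helper6)

Generated tables and kernel checks.
-/

set_option autoImplicit false

namespace Cfsg.Agent.Lib.Helper6.ChevN

open Cfsg.Lie Cfsg.Agent.Lib.Helper6.ChevConj

set_option maxHeartbeats 0 in
set_option maxRecDepth 100000 in
theorem tabCheckE8_1 : nTabCheck chevE8 (chevE8.simple 1) tabE8_1 := by
  decide +kernel

set_option maxHeartbeats 0 in
set_option maxRecDepth 100000 in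
theorem conjE8_1a_0 : nConjCheckL chevE8 tabE8_1 1 (List.range' 0 8) := by
  decide +kernel

set_option maxHeartbeats 0 in
set_option maxRecDepth 100000 in
theorem conjE8_1a_1 : nConjCheckL chevE8 tabE8_1 1 (List.range' 8 8) := by
  decide +kernel

set_option maxHeartbeats 0 in
set_option maxRecDepth 100000 in
theorem conjE8_1a_2 : nConjCheckL chevE8 tabE8_1 1 (List.range' 16 8) := by
  decide +kernel

set_option maxHeartbeats 0 in
set_option maxRecDepth 100000 in
theorem conjE8_1a_3 : nConjCheckL chevE8 tabE8_1 1 (List.range' 24 8) := by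
  decide +kernel

set_option maxHeartbeats 0 in
set_option maxRecDepth 100000 in
theorem conjE8_1a_4 : nConjCheckL chevE8 tabE8_1 1 (List.range' 32 8) := by
  decide +kernel

set_option maxHeartbeats 0 in
set_option maxRecDepth 100000 in
theorem conjE8_1a_5 : nConjCheckL chevE8 tabE8_1 1 (List.range' 40 8) := by
  decide +kernel

set_option maxHeartbeats 0 in
set_option maxRecDepth 100000 in
theorem conjE8_1a_6 : nConjCheckL chevE8 tabE8_1 1 (List.range' 48 8) := by
  decide +kernel

set_option maxHeartbeats 0 in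
set_option maxRecDepth 100000 in
theorem conjE8_1a_7 : nConjCheckL chevE8 tabE8_1 1 (List.range' 56 8) := by
  decide +kernel

set_option maxHeartbeats 0 in
set_option maxRecDepth 100000 in
theorem conjE8_1a_8 : nConjCheckL chevE8 tabE8_1 1 (List.range' 64 8) := by
  decide +kernel

set_option maxHeartbeats 0 in
set_option maxRecDepth 100000 in
theorem conjE8_1a_9 : nConjCheckL chevE8 tabE8_1 1 (List.range' 72 8) := by
  decide +kernel

set_option maxHeartbeats 0 in
set_option maxRecDepth 100000 in
theorem conjE8_1a_10 : nConjCheckL chevE8 tabE8_1 1 (List.range' 80 8) := by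
  decide +kernel

set_option maxHeartbeats 0 in
set_option maxRecDepth 100000 in
theorem conjE8_1a_11 : nConjCheckL chevE8 tabE8_1 1 (List.range' 88 8) := by
  decide +kernel

set_option maxHeartbeats 0 in
set_option maxRecDepth 100000 in
theorem conjE8_1a_12 : nConjCheckL chevE8 tabE8_1 1 (List.range' 96 8) := by
  decide +kernel

set_option maxHeartbeats 0 in
set_option maxRecDepth 100000 in
theorem conjE8_1a_13 : nConjCheckL chevE8 tabE8_1 1 (List.range' 104 8) := by
  decide +kernel

set_option maxHeartbeats 0 in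
set_option maxRecDepth 100000 in
theorem conjE8_1a_14 : nConjCheckL chevE8 tabE8_1 1 (List.range' 112 8) := by
  decide +kernel

theorem conjE8_1a (s : ℕ) (h1 : 0 ≤ s) (h2 : s < 120) : nConjCheck chevE8 tabE8_1 1 s := by
  by_cases h8 : s < 8
  · exact conjE8_1a_0 s (List.mem_range'_1.mpr ⟨by omega, by omega⟩)
  by_cases h16 : s < 16
  · exact conjE8_1a_1 s (List.mem_range'_1.mpr ⟨by omega, by omega⟩)
  by_cases h24 : s < 24
  · exact conjE8_1a_2 s (List.mem_range'_1.mpr ⟨by omega, by omega⟩)
  by_cases h32 : s < 32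
  · exact conjE8_1a_3 s (List.mem_range'_1.mpr ⟨by omega, by omega⟩)
  by_cases h40 : s < 40
  · exact conjE8_1a_4 s (List.mem_range'_1.mpr ⟨by omega, by omega⟩)
  by_cases h48 : s < 48
  · exact conjE8_1a_5 s (List.mem_range'_1.mpr ⟨by omega, by omega⟩)
  by_cases h56 : s < 56
  · exact conjE8_1a_6 s (List.mem_range'_1.mpr ⟨by omega, by omega⟩)
  by_cases h64 : s < 64
  · exact conjE8_1a_7 s (List.mem_range'_1.mpr ⟨by omega, by omega⟩)
  by_cases h72 : s < 72
  · exact conjE8_1a_8 s (List.mem_range'_1.mpr ⟨by omega, by omega⟩)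
  by_cases h80 : s < 80
  · exact conjE8_1a_9 s (List.mem_range'_1.mpr ⟨by omega, by omega⟩)
  by_cases h88 : s < 88
  · exact conjE8_1a_10 s (List.mem_range'_1.mpr ⟨by omega, by omega⟩)
  by_cases h96 : s < 96
  · exact conjE8_1a_11 s (List.mem_range'_1.mpr ⟨by omega, by omega⟩)
  by_cases h104 : s < 104
  · exact conjE8_1a_12 s (List.mem_range'_1.mpr ⟨by omega, by omega⟩)
  by_cases h112 : s < 112
  · exact conjE8_1a_13 s (List.mem_range'_1.mpr ⟨by omega, by omega⟩)
  exact conjE8_1a_14 s (List.mem_range'_1.mpr ⟨by omega, by omega⟩)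


end Cfsg.Agent.Lib.Helper6.ChevN
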