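import Mathlib
import Cfsg.Agent.Lib.Helper6.ChevConj
import Cfsg.Prelude.Def_ChevG2
import Cfsg.Prelude.Def_ChevB2
import Cfsg.Prelude.Def_ChevD4
import Cfsg.Prelude.Def_ChevF4

/-!
# The elements n_p for the small types (helper6)

Generated tables and kernel checks.
-/

set_option autoImplicit false

namespace Cfsg.Agent.Lib.Helper6.ChevN

open Cfsg.Lie Cfsg.Agent.Lib.Helper6.ChevConj

/-- the matrix of `n_p(1)` for the fundamental root 0 of G2 -/
def tabG2_0 : Tab :=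
  [[(0, -1)], [(1, 1), (0, 1)], [(2, 1)], [(7, -1)], [(5, -1)], [(4, 1)], [(9, -1)], [(3, 1)], [(12, 1)], [(6, -1)], [(11, 1)], [(10, -1)], [(8, -1)], [(13, 1)]]

set_option maxHeartbeats 0 in
set_option maxRecDepth 100000 in
theorem tabCheckG2_0 : nTabCheck chevG2 (chevG2.simple 0) tabG2_0 := by
  decide +kernel

set_option maxHeartbeats 0 in
set_option maxRecDepth 100000 in
theorem conjG2_0_0 : nConjCheckL chevG2 tabG2_0 0 (List.range' 0 12) := by
  decide +kernel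

theorem conjG2_0 (s : ℕ) (h1 : 0 ≤ s) (h2 : s < 12) : nConjCheck chevG2 tabG2_0 0 s := by
  exact conjG2_0_0 s (List.mem_range'_1.mpr ⟨by omega, by omega⟩)

/-- the matrix of `n_p(1)` for the fundamental root 1 of G2 -/
def tabG2_1 : Tab :=
  [[(1, 3), (0, 1)], [(1, -1)], [(3, -1)], [(2, 1)], [(4, 1)], [(6, -1)], [(5, 1)], [(8, -1)], [(7, -1)], [(10, 1)], [(9, -1)], [(11, 1)], [(13, 1)], [(12, -1)]]

set_option maxHeartbeats 0 in
set_option maxRecDepth 100000 in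
theorem tabCheckG2_1 : nTabCheck chevG2 (chevG2.simple 1) tabG2_1 := by
  decide +kernel

set_option maxHeartbeats 0 in
set_option maxRecDepth 100000 in
theorem conjG2_1_0 : nConjCheckL chevG2 tabG2_1 1 (List.range' 0 12) := by
  decide +kernel

theorem conjG2_1 (s : ℕ) (h1 : 0 ≤ s) (h2 : s < 12) : nConjCheck chevG2 tabG2_1 1 s := by
  exact conjG2_1_0 s (List.mem_range'_1.mpr ⟨by omega, by omega⟩)

/-- the matrix of `n_p(1)` for the fundamental root 0 of B2 -/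
def tabB2_0 : Tab :=
  [[(0, -1)], [(1, 1), (0, 1)], [(5, -1)], [(3, -1)], [(7, -1)], [(2, -1)], [(9, -1)], [(4, -1)], [(8, -1)], [(6, -1)]]

set_option maxHeartbeats 0 in
set_option maxRecDepth 100000 in
theorem tabCheckB2_0 : nTabCheck chevB2 (chevB2.simple 0) tabB2_0 := by
  decide +kernel

set_option maxHeartbeats 0 in
set_option maxRecDepth 100000 in
theorem conjB2_0_0 : nConjCheckL chevB2 tabB2_0 0 (List.range' 0 8) := by
  decide +kernel

theorem conjB2_0 (s : ℕ) (h1 : 0 ≤ s) (h2 : s < 8) : nConjCheck chevB2 tabB2_0 0 s := by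
  exact conjB2_0_0 s (List.mem_range'_1.mpr ⟨by omega, by omega⟩)

/-- the matrix of `n_p(1)` for the fundamental root 1 of B2 -/
def tabB2_1 : Tab :=
  [[(1, 2), (0, 1)], [(1, -1)], [(2, 1)], [(4, -1)], [(3, 1)], [(6, -1)], [(5, -1)], [(8, 1)], [(7, -1)], [(9, 1)]]

set_option maxHeartbeats 0 in
set_option maxRecDepth 100000 in
theorem tabCheckB2_1 : nTabCheck chevB2 (chevB2.simple 1) tabB2_1 := by
  decide +kernel

set_option maxHeartbeats 0 in
set_option maxRecDepth 100000 in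
theorem conjB2_1_0 : nConjCheckL chevB2 tabB2_1 1 (List.range' 0 8) := by
  decide +kernel

theorem conjB2_1 (s : ℕ) (h1 : 0 ≤ s) (h2 : s < 8) : nConjCheck chevB2 tabB2_1 1 s := by
  exact conjB2_1_0 s (List.mem_range'_1.mpr ⟨by omega, by omega⟩)

/-- the matrix of `n_p(1)` for the fundamental root 0 of D4 -/
def tabD4_0 : Tab :=
  [[(0, -1)], [(1, 1), (0, 1)], [(2, 1)], [(3, 1)], [(4, 1)], [(10, 1)], [(11, 1)], [(12, 1)], [(13, 1)], [(22, -1)], [(5, -1)], [(6, -1)], [(7, -1)], [(8, -1)], [(14, 1)], [(15, 1)], [(16, 1)], [(17, 1)], [(23, -1)], [(24, -1)], [(25, -1)], [(26, -1)], [(9, -1)], [(18, 1)], [(19, 1)], [(20, 1)], [(21, 1)], [(27, 1)]]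

set_option maxHeartbeats 0 in
set_option maxRecDepth 100000 in
theorem tabCheckD4_0 : nTabCheck chevD4 (chevD4.simple 0) tabD4_0 := by
  decide +kernel

set_option maxHeartbeats 0 in
set_option maxRecDepth 100000 in
theorem conjD4_0_0 : nConjCheckL chevD4 tabD4_0 0 (List.range' 0 24) := by
  decide +kernel

theorem conjD4_0 (s : ℕ) (h1 : 0 ≤ s) (h2 : s < 24) : nConjCheck chevD4 tabD4_0 0 s := by
  exact conjD4_0_0 s (List.mem_range'_1.mpr ⟨by omega, by omega⟩)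

/-- the matrix of `n_p(1)` for the fundamental root 1 of D4 -/
def tabD4_1 : Tab :=
  [[(1, 1), (0, 1)], [(1, -1)], [(2, 1), (1, 1)], [(3, 1), (1, 1)], [(5, -1)], [(4, 1)], [(6, 1)], [(7, 1)], [(9, -1)], [(8, 1)], [(10, 1)], [(14, 1)], [(15, 1)], [(18, -1)], [(11, -1)], [(12, -1)], [(19, -1)], [(20, -1)], [(13, -1)], [(16, 1)], [(17, 1)], [(21, 1)], [(23, 1)], [(22, -1)], [(24, 1)], [(25, 1)], [(27, 1)], [(26, -1)]]

set_option maxHeartbeats 0 in
set_option maxRecDepth 100000 in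
theorem tabCheckD4_1 : nTabCheck chevD4 (chevD4.simple 1) tabD4_1 := by
  decide +kernel

set_option maxHeartbeats 0 in
set_option maxRecDepth 100000 in
theorem conjD4_1_0 : nConjCheckL chevD4 tabD4_1 1 (List.range' 0 24) := by
  decide +kernel

theorem conjD4_1 (s : ℕ) (h1 : 0 ≤ s) (h2 : s < 24) : nConjCheck chevD4 tabD4_1 1 s := by
  exact conjD4_1_0 s (List.mem_range'_1.mpr ⟨by omega, by omega⟩)

/-- the matrix of `n_p(1)` for the fundamental root 2 of D4 -/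
def tabD4_2 : Tab :=
  [[(0, 1)], [(2, 1), (1, 1)], [(2, -1)], [(3, 1)], [(4, 1)], [(7, -1)], [(8, -1)], [(5, 1)], [(6, 1)], [(9, 1)], [(12, -1)], [(13, -1)], [(10, 1)], [(11, 1)], [(17, -1)], [(15, 1)], [(16, 1)], [(14, -1)], [(20, 1)], [(21, 1)], [(18, -1)], [(19, -1)], [(22, 1)], [(25, 1)], [(26, 1)], [(23, -1)], [(24, -1)], [(27, 1)]]

set_option maxHeartbeats 0 in
set_option maxRecDepth 100000 in
theorem tabCheckD4_2 : nTabCheck chevD4 (chevD4.simple 2) tabD4_2 := by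
  decide +kernel

set_option maxHeartbeats 0 in
set_option maxRecDepth 100000 in
theorem conjD4_2_0 : nConjCheckL chevD4 tabD4_2 2 (List.range' 0 24) := by
  decide +kernel

theorem conjD4_2 (s : ℕ) (h1 : 0 ≤ s) (h2 : s < 24) : nConjCheck chevD4 tabD4_2 2 s := by
  exact conjD4_2_0 s (List.mem_range'_1.mpr ⟨by omega, by omega⟩)

/-- the matrix of `n_p(1)` for the fundamental root 3 of D4 -/
def tabD4_3 : Tab :=
  [[(0, 1)], [(3, 1), (1, 1)], [(2, 1)], [(3, -1)], [(4, 1)], [(6, -1)], [(5, 1)], [(8, -1)], [(7, 1)], [(9, 1)], [(11, -1)], [(10, 1)], [(13, -1)], [(12, 1)], [(14, 1)], [(16, -1)], [(15, -1)], [(17, 1)], [(19, 1)], [(18, -1)], [(21, 1)], [(20, -1)], [(22, 1)], [(24, 1)], [(23, -1)], [(26, 1)], [(25, -1)], [(27, 1)]]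

set_option maxHeartbeats 0 in
set_option maxRecDepth 100000 in
theorem tabCheckD4_3 : nTabCheck chevD4 (chevD4.simple 3) tabD4_3 := by
  decide +kernel

set_option maxHeartbeats 0 in
set_option maxRecDepth 100000 in
theorem conjD4_3_0 : nConjCheckL chevD4 tabD4_3 3 (List.range' 0 24) := by
  decide +kernel

theorem conjD4_3 (s : ℕ) (h1 : 0 ≤ s) (h2 : s < 24) : nConjCheck chevD4 tabD4_3 3 s := by
  exact conjD4_3_0 s (List.mem_range'_1.mpr ⟨by omega, by omega⟩)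

/-- the matrix of `n_p(1)` for the fundamental root 0 of F4 -/
def tabF4_0 : Tab :=
  [[(0, -1)], [(1, 1), (0, 1)], [(2, 1)], [(3, 1)], [(4, 1)], [(5, 1)], [(6, 1)], [(11, -1)], [(19, -1)], [(20, -1)], [(21, -1)], [(7, 1)], [(12, -1)], [(13, -1)], [(14, -1)], [(22, 1)], [(23, 1)], [(24, 1)], [(37, -1)], [(8, -1)], [(9, -1)], [(10, -1)], [(15, -1)], [(16, -1)], [(17, -1)], [(25, 1)], [(26, 1)], [(27, 1)], [(28, 1)], [(29, 1)], [(30, 1)], [(38, -1)], [(39, -1)], [(40, -1)], [(45, -1)], [(46, -1)], [(47, -1)], [(18, -1)], [(31, 1)], [(32, 1)], [(33, 1)], [(41, -1)], [(42, -1)], [(43, -1)], [(48, 1)], [(34, -1)], [(35, -1)], [(36, -1)], [(44, -1)], [(49, 1)], [(50, 1)], [(51, 1)]]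

set_option maxHeartbeats 0 in
set_option maxRecDepth 100000 in
theorem tabCheckF4_0 : nTabCheck chevF4 (chevF4.simple 0) tabF4_0 := by
  decide +kernel

set_option maxHeartbeats 0 in
set_option maxRecDepth 100000 in
theorem conjF4_0_0 : nConjCheckL chevF4 tabF4_0 0 (List.range' 0 48) := by
  decide +kernel

theorem conjF4_0 (s : ℕ) (h1 : 0 ≤ s) (h2 : s < 48) : nConjCheck chevF4 tabF4_0 0 s := by
  exact conjF4_0_0 s (List.mem_range'_1.mpr ⟨by omega, by omega⟩)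

/-- the matrix of `n_p(1)` for the fundamental root 1 of F4 -/
def tabF4_1 : Tab :=
  [[(1, 1), (0, 1)], [(1, -1)], [(2, 1), (1, 1)], [(3, 1)], [(4, 1)], [(5, 1)], [(8, 1)], [(7, -1)], [(6, 1)], [(9, 1)], [(10, 1)], [(12, -1)], [(11, 1)], [(15, -1)], [(16, -1)], [(13, 1)], [(14, 1)], [(18, -1)], [(17, 1)], [(19, 1)], [(25, -1)], [(26, -1)], [(22, -1)], [(23, -1)], [(31, -1)], [(20, -1)], [(21, -1)], [(27, 1)], [(28, 1)], [(34, -1)], [(35, -1)], [(24, -1)], [(32, -1)], [(33, -1)], [(29, -1)], [(30, -1)], [(36, 1)], [(38, 1)], [(37, -1)], [(41, 1)], [(42, 1)], [(39, -1)], [(40, -1)], [(44, 1)], [(43, -1)], [(45, 1)], [(46, 1)], [(49, 1)], [(48, -1)], [(47, 1)], [(50, 1)], [(51, 1)]]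

set_option maxHeartbeats 0 in
set_option maxRecDepth 100000 in
theorem tabCheckF4_1 : nTabCheck chevF4 (chevF4.simple 1) tabF4_1 := by
  decide +kernel

set_option maxHeartbeats 0 in
set_option maxRecDepth 100000 in
theorem conjF4_1_0 : nConjCheckL chevF4 tabF4_1 1 (List.range' 0 48) := by
  decide +kernel

theorem conjF4_1 (s : ℕ) (h1 : 0 ≤ s) (h2 : s < 48) : nConjCheck chevF4 tabF4_1 1 s := by
  exact conjF4_1_0 s (List.mem_range'_1.mpr ⟨by omega, by omega⟩)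

/-- the matrix of `n_p(1)` for the fundamental root 2 of F4 -/
def tabF4_2 : Tab :=
  [[(0, 1)], [(2, 2), (1, 1)], [(2, -1)], [(3, 1), (2, 1)], [(4, 1)], [(6, -1)], [(5, 1)], [(7, 1)], [(9, -1)], [(8, 1)], [(10, 1)], [(11, 1)], [(13, -1)], [(12, 1)], [(14, 1)], [(15, 1)], [(17, -1)], [(16, 1)], [(18, 1)], [(20, -1)], [(19, 1)], [(21, 1)], [(22, 1)], [(24, -1)], [(23, 1)], [(27, 1)], [(29, -1)], [(25, -1)], [(30, -1)], [(26, -1)], [(28, 1)], [(32, 1)], [(31, -1)], [(33, 1)], [(34, 1)], [(36, 1)], [(35, -1)], [(37, 1)], [(39, 1)], [(38, -1)], [(40, 1)], [(41, 1)], [(43, 1)], [(42, -1)], [(44, 1)], [(45, 1)], [(47, 1)], [(46, -1)], [(48, 1)], [(50, 1)], [(49, -1)], [(51, 1)]]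

set_option maxHeartbeats 0 in
set_option maxRecDepth 100000 in
theorem tabCheckF4_2 : nTabCheck chevF4 (chevF4.simple 2) tabF4_2 := by
  decide +kernel

set_option maxHeartbeats 0 in
set_option maxRecDepth 100000 in
theorem conjF4_2_0 : nConjCheckL chevF4 tabF4_2 2 (List.range' 0 48) := by
  decide +kernel

theorem conjF4_2 (s : ℕ) (h1 : 0 ≤ s) (h2 : s < 48) : nConjCheck chevF4 tabF4_2 2 s := by
  exact conjF4_2_0 s (List.mem_range'_1.mpr ⟨by omega, by omega⟩)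

/-- the matrix of `n_p(1)` for the fundamental root 3 of F4 -/
def tabF4_3 : Tab :=
  [[(0, 1)], [(1, 1)], [(3, 1), (2, 1)], [(3, -1)], [(5, -1)], [(4, 1)], [(6, 1)], [(7, 1)], [(8, 1)], [(10, -1)], [(9, 1)], [(11, 1)], [(12, 1)], [(14, -1)], [(13, 1)], [(16, -1)], [(15, 1)], [(17, 1)], [(18, 1)], [(19, 1)], [(21, -1)], [(20, 1)], [(23, -1)], [(22, 1)], [(24, 1)], [(26, -1)], [(25, 1)], [(28, -1)], [(27, -1)], [(30, 1)], [(29, -1)], [(31, 1)], [(33, 1)], [(32, -1)], [(35, 1)], [(34, -1)], [(36, 1)], [(37, 1)], [(38, 1)], [(40, 1)], [(39, -1)], [(42, 1)], [(41, -1)], [(43, 1)], [(44, 1)], [(46, 1)], [(45, -1)], [(47, 1)], [(48, 1)], [(49, 1)], [(51, 1)], [(50, -1)]]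

set_option maxHeartbeats 0 in
set_option maxRecDepth 100000 in
theorem tabCheckF4_3 : nTabCheck chevF4 (chevF4.simple 3) tabF4_3 := by
  decide +kernel

set_option maxHeartbeats 0 in
set_option maxRecDepth 100000 in
theorem conjF4_3_0 : nConjCheckL chevF4 tabF4_3 3 (List.range' 0 48) := by
  decide +kernel

theorem conjF4_3 (s : ℕ) (h1 : 0 ≤ s) (h2 : s < 48) : nConjCheck chevF4 tabF4_3 3 s := by
  exact conjF4_3_0 s (List.mem_range'_1.mpr ⟨by omega, by omega⟩)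


end Cfsg.Agent.Lib.Helper6.ChevN
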