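import Mathlib
import Cfsg.Agent.Lib.Helper6.ChevConj
import Cfsg.Prelude.Def_ChevE6

/-!
# The elements n_p for E6 (helper6)

Generated tables and kernel checks.
-/

set_option autoImplicit false

namespace Cfsg.Agent.Lib.Helper6.ChevN

open Cfsg.Lie Cfsg.Agent.Lib.Helper6.ChevConj

/-- the matrix of `n_p(1)` for the fundamental root 0 of E6 -/
def tabE6_0 : Tab :=
  [[(0, -1)], [(1, 1)], [(2, 1), (0, 1)], [(3, 1)], [(4, 1)], [(5, 1)], [(6, 1)], [(7, 1)], [(8, 1)], [(9, 1)], [(10, 1)], [(22, 1)], [(23, 1)], [(24, 1)], [(25, 1)], [(26, 1)], [(27, 1)], [(32, 1)], [(33, 1)], [(34, 1)], [(35, 1)], [(62, -1)], [(11, -1)], [(12, -1)], [(13, -1)], [(14, -1)], [(15, -1)], [(16, -1)], [(28, 1)], [(29, 1)], [(30, 1)], [(31, 1)], [(17, -1)], [(18, -1)], [(19, -1)], [(20, -1)], [(36, 1)], [(37, 1)], [(38, 1)], [(39, 1)], [(40, 1)], [(41, 1)], [(42, 1)], [(43, 1)], [(44, 1)], [(45, 1)], [(46, 1)], [(47, 1)], [(63, -1)], [(64, -1)], [(65, -1)], [(66, -1)],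 [(52, 1)], [(53, 1)], [(54, 1)], [(55, 1)], [(67, -1)], [(68, -1)], [(69, -1)], [(70, -1)], [(71, -1)], [(72, -1)], [(21, -1)], [(48, 1)], [(49, 1)], [(50, 1)], [(51, 1)], [(56, 1)], [(57, 1)], [(58, 1)], [(59, 1)], [(60, 1)], [(61, 1)], [(73, 1)], [(74, 1)], [(75, 1)], [(76, 1)], [(77, 1)]]

set_option maxHeartbeats 0 in
set_option maxRecDepth 100000 in
theorem tabCheckE6_0 : nTabCheck chevE6 (chevE6.simple 0) tabE6_0 := by
  decide +kernel

set_option maxHeartbeats 0 in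
set_option maxRecDepth 100000 in
theorem conjE6_0_0 : nConjCheckL chevE6 tabE6_0 0 (List.range' 0 12) := by
  decide +kernel

set_option maxHeartbeats 0 in
set_option maxRecDepth 100000 in
theorem conjE6_0_1 : nConjCheckL chevE6 tabE6_0 0 (List.range' 12 12) := by
  decide +kernel

set_option maxHeartbeats 0 in
set_option maxRecDepth 100000 in
theorem conjE6_0_2 : nConjCheckL chevE6 tabE6_0 0 (List.range' 24 12) := by
  decide +kernel

set_option maxHeartbeats 0 in
set_option maxRecDepth 100000 in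
theorem conjE6_0_3 : nConjCheckL chevE6 tabE6_0 0 (List.range' 36 12) := by
  decide +kernel

set_option maxHeartbeats 0 in
set_option maxRecDepth 100000 in
theorem conjE6_0_4 : nConjCheckL chevE6 tabE6_0 0 (List.range' 48 12) := by
  decide +kernel

set_option maxHeartbeats 0 in
set_option maxRecDepth 100000 in
theorem conjE6_0_5 : nConjCheckL chevE6 tabE6_0 0 (List.range' 60 12) := by
  decide +kernel

theorem conjE6_0 (s : ℕ) (h1 : 0 ≤ s) (h2 : s < 72) : nConjCheck chevE6 tabE6_0 0 s := by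
  by_cases h12 : s < 12
  · exact conjE6_0_0 s (List.mem_range'_1.mpr ⟨by omega, by omega⟩)
  by_cases h24 : s < 24
  · exact conjE6_0_1 s (List.mem_range'_1.mpr ⟨by omega, by omega⟩)
  by_cases h36 : s < 36
  · exact conjE6_0_2 s (List.mem_range'_1.mpr ⟨by omega, by omega⟩)
  by_cases h48 : s < 48
  · exact conjE6_0_3 s (List.mem_range'_1.mpr ⟨by omega, by omega⟩)
  by_cases h60 : s < 60
  · exact conjE6_0_4 s (List.mem_range'_1.mpr ⟨by omega, by omega⟩)
  exact conjE6_0_5 s (List.mem_range'_1.mpr ⟨by omega, by omega⟩)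

/-- the matrix of `n_p(1)` for the fundamental root 1 of E6 -/
def tabE6_1 : Tab :=
  [[(0, 1)], [(1, -1)], [(2, 1)], [(3, 1), (1, 1)], [(4, 1)], [(5, 1)], [(7, -1)], [(6, 1)], [(8, 1)], [(9, 1)], [(10, 1)], [(11, 1)], [(12, 1)], [(13, 1)], [(17, -1)], [(18, -1)], [(19, -1)], [(14, 1)], [(15, 1)], [(16, 1)], [(20, 1)], [(21, 1)], [(22, 1)], [(23, 1)], [(24, 1)], [(32, -1)], [(33, -1)], [(34, -1)], [(36, 1)], [(37, 1)], [(38, 1)], [(52, -1)], [(25, 1)], [(26, 1)], [(27, 1)], [(35, 1)], [(28, -1)], [(29, -1)], [(30, -1)], [(39, 1)], [(40, 1)], [(41, 1)], [(42, 1)], [(43, 1)], [(44, 1)], [(53, -1)], [(54, -1)], [(55, -1)], [(48, 1)], [(56, 1)], [(57, 1)], [(58, 1)], [(31, -1)], [(45, 1)], [(46, 1)], [(47, 1)], [(49, -1)], [(50, -1)], [(51, -1)], [(59, 1)], [(60, 1)], [(61, 1)], [(62, 1)], [(63, 1)], [(67, 1)], [(68, 1)], [(69, 1)], [(64, -1)], [(65, -1)], [(66, -1)], [(70, 1)], [(71, 1)], [(72, 1)], [(73, 1)], [(74, 1)], [(75, 1)], [(77, 1)],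 [(76, -1)]]

set_option maxHeartbeats 0 in
set_option maxRecDepth 100000 in
theorem tabCheckE6_1 : nTabCheck chevE6 (chevE6.simple 1) tabE6_1 := by
  decide +kernel

set_option maxHeartbeats 0 in
set_option maxRecDepth 100000 in
theorem conjE6_1_0 : nConjCheckL chevE6 tabE6_1 1 (List.range' 0 12) := by
  decide +kernel

set_option maxHeartbeats 0 in
set_option maxRecDepth 100000 in
theorem conjE6_1_1 : nConjCheckL chevE6 tabE6_1 1 (List.range' 12 12) := by
  decide +kernel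

set_option maxHeartbeats 0 in
set_option maxRecDepth 100000 in
theorem conjE6_1_2 : nConjCheckL chevE6 tabE6_1 1 (List.range' 24 12) := by
  decide +kernel

set_option maxHeartbeats 0 in
set_option maxRecDepth 100000 in
theorem conjE6_1_3 : nConjCheckL chevE6 tabE6_1 1 (List.range' 36 12) := by
  decide +kernel

set_option maxHeartbeats 0 in
set_option maxRecDepth 100000 in
theorem conjE6_1_4 : nConjCheckL chevE6 tabE6_1 1 (List.range' 48 12) := by
  decide +kernel

set_option maxHeartbeats 0 in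
set_option maxRecDepth 100000 in
theorem conjE6_1_5 : nConjCheckL chevE6 tabE6_1 1 (List.range' 60 12) := by
  decide +kernel

theorem conjE6_1 (s : ℕ) (h1 : 0 ≤ s) (h2 : s < 72) : nConjCheck chevE6 tabE6_1 1 s := by
  by_cases h12 : s < 12
  · exact conjE6_1_0 s (List.mem_range'_1.mpr ⟨by omega, by omega⟩)
  by_cases h24 : s < 24
  · exact conjE6_1_1 s (List.mem_range'_1.mpr ⟨by omega, by omega⟩)
  by_cases h36 : s < 36
  · exact conjE6_1_2 s (List.mem_range'_1.mpr ⟨by omega, by omega⟩)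
  by_cases h48 : s < 48
  · exact conjE6_1_3 s (List.mem_range'_1.mpr ⟨by omega, by omega⟩)
  by_cases h60 : s < 60
  · exact conjE6_1_4 s (List.mem_range'_1.mpr ⟨by omega, by omega⟩)
  exact conjE6_1_5 s (List.mem_range'_1.mpr ⟨by omega, by omega⟩)

/-- the matrix of `n_p(1)` for the fundamental root 2 of E6 -/
def tabE6_2 : Tab :=
  [[(2, 1), (0, 1)], [(1, 1)], [(2, -1)], [(3, 1), (2, 1)], [(4, 1)], [(5, 1)], [(6, 1)], [(7, 1)], [(11, -1)], [(12, -1)], [(13, -1)], [(8, 1)], [(9, 1)], [(10, 1)], [(14, 1)], [(15, 1)], [(16, 1)], [(17, 1)], [(18, 1)], [(19, 1)], [(21, -1)], [(20, 1)], [(22, 1)], [(23, 1)], [(24, 1)], [(28, -1)], [(29, -1)], [(30, -1)], [(25, 1)], [(26, 1)], [(27, 1)], [(31, 1)], [(36, 1)], [(37, 1)], [(38, 1)], [(48, -1)], [(32, -1)], [(33, -1)], [(34, -1)], [(39, 1)], [(40, 1)], [(41, 1)], [(42, 1)], [(43, 1)], [(44, 1)], [(49, -1)], [(50, -1)], [(51, -1)], [(35, -1)], [(45, 1)], [(46, 1)], [(47, 1)], [(52, 1)], [(56, 1)],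 [(57, 1)], [(58, 1)], [(53, -1)], [(54, -1)], [(55, -1)], [(59, 1)], [(60, 1)], [(61, 1)], [(63, 1)], [(62, -1)], [(64, 1)], [(65, 1)], [(66, 1)], [(67, 1)], [(68, 1)], [(69, 1)], [(73, 1)], [(74, 1)], [(75, 1)], [(70, -1)], [(71, -1)], [(72, -1)], [(76, 1)], [(77, 1)]]

set_option maxHeartbeats 0 in
set_option maxRecDepth 100000 in
theorem tabCheckE6_2 : nTabCheck chevE6 (chevE6.simple 2) tabE6_2 := by
  decide +kernel

set_option maxHeartbeats 0 in
set_option maxRecDepth 100000 in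
theorem conjE6_2_0 : nConjCheckL chevE6 tabE6_2 2 (List.range' 0 12) := by
  decide +kernel

set_option maxHeartbeats 0 in
set_option maxRecDepth 100000 in
theorem conjE6_2_1 : nConjCheckL chevE6 tabE6_2 2 (List.range' 12 12) := by
  decide +kernel

set_option maxHeartbeats 0 in
set_option maxRecDepth 100000 in
theorem conjE6_2_2 : nConjCheckL chevE6 tabE6_2 2 (List.range' 24 12) := by
  decide +kernel

set_option maxHeartbeats 0 in
set_option maxRecDepth 100000 in
theorem conjE6_2_3 : nConjCheckL chevE6 tabE6_2 2 (List.range' 36 12) := by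
  decide +kernel

set_option maxHeartbeats 0 in
set_option maxRecDepth 100000 in
theorem conjE6_2_4 : nConjCheckL chevE6 tabE6_2 2 (List.range' 48 12) := by
  decide +kernel

set_option maxHeartbeats 0 in
set_option maxRecDepth 100000 in
theorem conjE6_2_5 : nConjCheckL chevE6 tabE6_2 2 (List.range' 60 12) := by
  decide +kernel

theorem conjE6_2 (s : ℕ) (h1 : 0 ≤ s) (h2 : s < 72) : nConjCheck chevE6 tabE6_2 2 s := by
  by_cases h12 : s < 12
  · exact conjE6_2_0 s (List.mem_range'_1.mpr ⟨by omega, by omega⟩)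
  by_cases h24 : s < 24
  · exact conjE6_2_1 s (List.mem_range'_1.mpr ⟨by omega, by omega⟩)
  by_cases h36 : s < 36
  · exact conjE6_2_2 s (List.mem_range'_1.mpr ⟨by omega, by omega⟩)
  by_cases h48 : s < 48
  · exact conjE6_2_3 s (List.mem_range'_1.mpr ⟨by omega, by omega⟩)
  by_cases h60 : s < 60
  · exact conjE6_2_4 s (List.mem_range'_1.mpr ⟨by omega, by omega⟩)
  exact conjE6_2_5 s (List.mem_range'_1.mpr ⟨by omega, by omega⟩)

/-- the matrix of `n_p(1)` for the fundamental root 3 of E6 -/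
def tabE6_3 : Tab :=
  [[(0, 1)], [(3, 1), (1, 1)], [(3, 1), (2, 1)], [(3, -1)], [(4, 1), (3, 1)], [(5, 1)], [(6, 1)], [(8, -1)], [(7, 1)], [(9, 1)], [(10, 1)], [(11, 1)], [(14, -1)], [(15, -1)], [(12, 1)], [(13, 1)], [(16, 1)], [(17, 1)], [(18, 1)], [(20, -1)], [(19, 1)], [(21, 1)], [(22, 1)], [(25, -1)], [(26, -1)], [(23, 1)], [(24, 1)], [(27, 1)], [(28, 1)], [(29, 1)], [(31, -1)], [(30, 1)], [(32, 1)], [(33, 1)], [(35, -1)], [(34, 1)], [(39, 1)], [(40, 1)], [(45, -1)], [(36, -1)], [(37, -1)], [(41, 1)], [(42, 1)], [(46, -1)], [(47, -1)], [(38, -1)], [(43, 1)], [(44, 1)], [(49, 1)], [(48, -1)], [(50, 1)], [(51, 1)], [(53, 1)], [(52, -1)], [(54, 1)], [(55, 1)], [(56, 1)], [(59, 1)], [(60, 1)], [(57, -1)], [(58, -1)], [(61, 1)], [(62, 1)], [(64, 1)], [(63, -1)], [(65, 1)], [(66, 1)], [(67, 1)], [(70, 1)], [(71, 1)], [(68, -1)], [(69, -1)], [(72, 1)], [(73, 1)], [(74, 1)], [(76, 1)], [(75, -1)], [(77, 1)]]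

set_option maxHeartbeats 0 in
set_option maxRecDepth 100000 in
theorem tabCheckE6_3 : nTabCheck chevE6 (chevE6.simple 3) tabE6_3 := by
  decide +kernel

set_option maxHeartbeats 0 in
set_option maxRecDepth 100000 in
theorem conjE6_3_0 : nConjCheckL chevE6 tabE6_3 3 (List.range' 0 12) := by
  decide +kernel

set_option maxHeartbeats 0 in
set_option maxRecDepth 100000 in
theorem conjE6_3_1 : nConjCheckL chevE6 tabE6_3 3 (List.range' 12 12) := by
  decide +kernel

set_option maxHeartbeats 0 in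
set_option maxRecDepth 100000 in
theorem conjE6_3_2 : nConjCheckL chevE6 tabE6_3 3 (List.range' 24 12) := by
  decide +kernel

set_option maxHeartbeats 0 in
set_option maxRecDepth 100000 in
theorem conjE6_3_3 : nConjCheckL chevE6 tabE6_3 3 (List.range' 36 12) := by
  decide +kernel

set_option maxHeartbeats 0 in
set_option maxRecDepth 100000 in
theorem conjE6_3_4 : nConjCheckL chevE6 tabE6_3 3 (List.range' 48 12) := by
  decide +kernel

set_option maxHeartbeats 0 in
set_option maxRecDepth 100000 in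
theorem conjE6_3_5 : nConjCheckL chevE6 tabE6_3 3 (List.range' 60 12) := by
  decide +kernel

theorem conjE6_3 (s : ℕ) (h1 : 0 ≤ s) (h2 : s < 72) : nConjCheck chevE6 tabE6_3 3 s := by
  by_cases h12 : s < 12
  · exact conjE6_3_0 s (List.mem_range'_1.mpr ⟨by omega, by omega⟩)
  by_cases h24 : s < 24
  · exact conjE6_3_1 s (List.mem_range'_1.mpr ⟨by omega, by omega⟩)
  by_cases h36 : s < 36
  · exact conjE6_3_2 s (List.mem_range'_1.mpr ⟨by omega, by omega⟩)
  by_cases h48 : s < 48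
  · exact conjE6_3_3 s (List.mem_range'_1.mpr ⟨by omega, by omega⟩)
  by_cases h60 : s < 60
  · exact conjE6_3_4 s (List.mem_range'_1.mpr ⟨by omega, by omega⟩)
  exact conjE6_3_5 s (List.mem_range'_1.mpr ⟨by omega, by omega⟩)

/-- the matrix of `n_p(1)` for the fundamental root 4 of E6 -/
def tabE6_4 : Tab :=
  [[(0, 1)], [(1, 1)], [(2, 1)], [(4, 1), (3, 1)], [(4, -1)], [(5, 1), (4, 1)], [(6, 1)], [(7, 1)], [(9, -1)], [(8, 1)], [(10, 1)], [(12, -1)], [(11, 1)], [(13, 1)], [(14, 1)], [(16, -1)], [(15, 1)], [(17, 1)], [(19, -1)], [(18, 1)], [(20, 1)], [(21, 1)], [(23, -1)], [(22, 1)], [(24, 1)], [(25, 1)], [(27, -1)], [(26, 1)], [(28, 1)], [(30, -1)], [(29, 1)], [(31, 1)], [(32, 1)], [(34, -1)], [(33, 1)], [(35, 1)], [(36, 1)], [(38, -1)], [(37, 1)], [(41, 1)], [(43, -1)], [(39, -1)], [(44, -1)], [(40, -1)], [(42, 1)], [(46, 1)], [(45, -1)], [(47, 1)], [(48, 1)], [(50, 1)], [(49, -1)], [(51, 1)], [(52, 1)], [(54, 1)], [(53, -1)], [(55, 1)],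 [(57, 1)], [(56, -1)], [(58, 1)], [(59, 1)], [(61, 1)], [(60, -1)], [(62, 1)], [(63, 1)], [(65, 1)], [(64, -1)], [(66, 1)], [(68, 1)], [(67, -1)], [(69, 1)], [(70, 1)], [(72, 1)], [(71, -1)], [(73, 1)], [(75, 1)], [(74, -1)], [(76, 1)], [(77, 1)]]

set_option maxHeartbeats 0 in
set_option maxRecDepth 100000 in
theorem tabCheckE6_4 : nTabCheck chevE6 (chevE6.simple 4) tabE6_4 := by
  decide +kernel

set_option maxHeartbeats 0 in
set_option maxRecDepth 100000 in
theorem conjE6_4_0 : nConjCheckL chevE6 tabE6_4 4 (List.range' 0 12) := by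
  decide +kernel

set_option maxHeartbeats 0 in
set_option maxRecDepth 100000 in
theorem conjE6_4_1 : nConjCheckL chevE6 tabE6_4 4 (List.range' 12 12) := by
  decide +kernel

set_option maxHeartbeats 0 in
set_option maxRecDepth 100000 in
theorem conjE6_4_2 : nConjCheckL chevE6 tabE6_4 4 (List.range' 24 12) := by
  decide +kernel

set_option maxHeartbeats 0 in
set_option maxRecDepth 100000 in
theorem conjE6_4_3 : nConjCheckL chevE6 tabE6_4 4 (List.range' 36 12) := by
  decide +kernel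

set_option maxHeartbeats 0 in
set_option maxRecDepth 100000 in
theorem conjE6_4_4 : nConjCheckL chevE6 tabE6_4 4 (List.range' 48 12) := by
  decide +kernel

set_option maxHeartbeats 0 in
set_option maxRecDepth 100000 in
theorem conjE6_4_5 : nConjCheckL chevE6 tabE6_4 4 (List.range' 60 12) := by
  decide +kernel

theorem conjE6_4 (s : ℕ) (h1 : 0 ≤ s) (h2 : s < 72) : nConjCheck chevE6 tabE6_4 4 s := by
  by_cases h12 : s < 12
  · exact conjE6_4_0 s (List.mem_range'_1.mpr ⟨by omega, by omega⟩)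
  by_cases h24 : s < 24
  · exact conjE6_4_1 s (List.mem_range'_1.mpr ⟨by omega, by omega⟩)
  by_cases h36 : s < 36
  · exact conjE6_4_2 s (List.mem_range'_1.mpr ⟨by omega, by omega⟩)
  by_cases h48 : s < 48
  · exact conjE6_4_3 s (List.mem_range'_1.mpr ⟨by omega, by omega⟩)
  by_cases h60 : s < 60
  · exact conjE6_4_4 s (List.mem_range'_1.mpr ⟨by omega, by omega⟩)
  exact conjE6_4_5 s (List.mem_range'_1.mpr ⟨by omega, by omega⟩)

/-- the matrix of `n_p(1)` for the fundamental root 5 of E6 -/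
def tabE6_5 : Tab :=
  [[(0, 1)], [(1, 1)], [(2, 1)], [(3, 1)], [(5, 1), (4, 1)], [(5, -1)], [(6, 1)], [(7, 1)], [(8, 1)], [(10, -1)], [(9, 1)], [(11, 1)], [(13, -1)], [(12, 1)], [(15, -1)], [(14, 1)], [(16, 1)], [(18, -1)], [(17, 1)], [(19, 1)], [(20, 1)], [(21, 1)], [(22, 1)], [(24, -1)], [(23, 1)], [(26, -1)], [(25, 1)], [(27, 1)], [(29, -1)], [(28, 1)], [(30, 1)], [(31, 1)], [(33, -1)], [(32, 1)], [(34, 1)], [(35, 1)], [(37, -1)], [(36, 1)], [(38, 1)], [(40, -1)], [(39, 1)], [(42, -1)], [(41, -1)], [(44, 1)], [(43, -1)], [(45, 1)], [(47, 1)], [(46, -1)], [(48, 1)], [(49, 1)], [(51, 1)], [(50, -1)], [(52, 1)], [(53, 1)], [(55, 1)], [(54, -1)], [(56, 1)], [(58, 1)], [(57, -1)], [(60, 1)], [(59, -1)], [(61, 1)], [(62, 1)], [(63, 1)], [(64, 1)], [(66, 1)], [(65, -1)], [(67, 1)], [(69, 1)], [(68, -1)], [(71, 1)], [(70, -1)], [(72, 1)], [(74, 1)], [(73, -1)], [(75, 1)], [(76, 1)], [(77, 1)]]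

set_option maxHeartbeats 0 in
set_option maxRecDepth 100000 in
theorem tabCheckE6_5 : nTabCheck chevE6 (chevE6.simple 5) tabE6_5 := by
  decide +kernel

set_option maxHeartbeats 0 in
set_option maxRecDepth 100000 in
theorem conjE6_5_0 : nConjCheckL chevE6 tabE6_5 5 (List.range' 0 12) := by
  decide +kernel

set_option maxHeartbeats 0 in
set_option maxRecDepth 100000 in
theorem conjE6_5_1 : nConjCheckL chevE6 tabE6_5 5 (List.range' 12 12) := by
  decide +kernel

set_option maxHeartbeats 0 in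
set_option maxRecDepth 100000 in
theorem conjE6_5_2 : nConjCheckL chevE6 tabE6_5 5 (List.range' 24 12) := by
  decide +kernel

set_option maxHeartbeats 0 in
set_option maxRecDepth 100000 in
theorem conjE6_5_3 : nConjCheckL chevE6 tabE6_5 5 (List.range' 36 12) := by
  decide +kernel

set_option maxHeartbeats 0 in
set_option maxRecDepth 100000 in
theorem conjE6_5_4 : nConjCheckL chevE6 tabE6_5 5 (List.range' 48 12) := by
  decide +kernel

set_option maxHeartbeats 0 in
set_option maxRecDepth 100000 in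
theorem conjE6_5_5 : nConjCheckL chevE6 tabE6_5 5 (List.range' 60 12) := by
  decide +kernel

theorem conjE6_5 (s : ℕ) (h1 : 0 ≤ s) (h2 : s < 72) : nConjCheck chevE6 tabE6_5 5 s := by
  by_cases h12 : s < 12
  · exact conjE6_5_0 s (List.mem_range'_1.mpr ⟨by omega, by omega⟩)
  by_cases h24 : s < 24
  · exact conjE6_5_1 s (List.mem_range'_1.mpr ⟨by omega, by omega⟩)
  by_cases h36 : s < 36
  · exact conjE6_5_2 s (List.mem_range'_1.mpr ⟨by omega, by omega⟩)
  by_cases h48 : s < 48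
  · exact conjE6_5_3 s (List.mem_range'_1.mpr ⟨by omega, by omega⟩)
  by_cases h60 : s < 60
  · exact conjE6_5_4 s (List.mem_range'_1.mpr ⟨by omega, by omega⟩)
  exact conjE6_5_5 s (List.mem_range'_1.mpr ⟨by omega, by omega⟩)


end Cfsg.Agent.Lib.Helper6.ChevN
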